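import Mathlib.RingTheory.DiscreteValuationRing.Basic
import Mathlib.Algebra.Module.Lattice
import Mathlib.Algebra.Module.Submodule.Pointwise
import Mathlib.RingTheory.Localization.FractionRing
import Mathlib.RingTheory.Filtration
import Mathlib.Tactic

/-!
# Lattices moved by twisted endomorphisms: basic calculus

`W` is (later) a discrete valuation ring with uniformiser the natural number `p`, `L` its fraction
field, `N` an `L`-vector space.  A *twisted* endomorphism is an additive endomorphism semilinear with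
respect to an automorphism of `L` preserving `W`.
-/

set_option autoImplicit false
set_option linter.unusedSectionVars false

open scoped Pointwise

namespace K923.Basic

section Defs

variable {W L : Type*} [CommRing W] [Field L] [Algebra W L]
variable {N : Type*} [AddCommGroup N] [Module W N] [Module L N] [IsScalarTower W L N]

/-- `G` is semilinear with respect to `τ`, which restricts to `σ` on `W`. -/
structure TwBy (τ : L ≃+* L) (σ : W ≃+* W) (G : AddMonoid.End N) : Prop where
  compat : ∀ w, τ (algebraMap W L w) = algebraMap W L (σ w)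
  map_smul : ∀ (c : L) (x : N), G (c • x) = τ c • G x

/-- `W`-span of the image. -/
def im (G : AddMonoid.End N) (M : Submodule W N) : Submodule W N :=
  Submodule.span W (G '' (M : Set N))

variable (L) in
/-- `p ^ r • M`. -/
def sc (p : ℕ) (r : ℤ) (M : Submodule W N) : Submodule W N := ((p : L) ^ r) • M

variable (N) in
/-- scaling operator by `c` -/
def sca (c : L) : AddMonoid.End N := DistribSMul.toAddMonoidHom N c

namespace TwBy

variable {τ τ' : L ≃+* L} {σ σ' : W ≃+* W} {G H : AddMonoid.End N}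

theorem map_smulW (h : TwBy τ σ G) (w : W) (x : N) : G (w • x) = σ w • G x := by
  rw [← algebraMap_smul L w x, h.map_smul, h.compat, algebraMap_smul]

theorem one : TwBy (1 : L ≃+* L) (1 : W ≃+* W) (1 : AddMonoid.End N) where
  compat _ := rfl
  map_smul _ _ := rfl

theorem mul (h : TwBy τ σ G) (h' : TwBy τ' σ' H) : TwBy (τ * τ') (σ * σ') (G * H) where
  compat w := by
    change τ (τ' _) = algebraMap W L (σ (σ' w))
    rw [h'.compat, h.compat]
  map_smul c x := by
    change G (H (c • x)) = τ (τ' c) • G (H x)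
    rw [h'.map_smul, h.map_smul]

theorem pow (h : TwBy τ σ G) (n : ℕ) : TwBy (τ ^ n) (σ ^ n) (G ^ n) := by
  induction n with
  | zero => simpa using one
  | succ n ih => rw [pow_succ, pow_succ, pow_succ]; exact ih.mul h

/-- scaling by an element `c` of `L` -/
theorem smul (h : TwBy τ σ G) (c : L) : TwBy τ σ (sca N c * G) where
  compat := h.compat
  map_smul a x := by
    change c • G (a • x) = τ a • c • G x
    rw [h.map_smul, smul_comm]

theorem mem_im (h : TwBy τ σ G) {M : Submodule W N} {y : N} :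
    y ∈ im G M ↔ ∃ x ∈ M, G x = y := by
  constructor
  · intro hy
    let S : Submodule W N :=
      { carrier := {z | ∃ x ∈ M, G x = z}
        add_mem' := by
          rintro _ _ ⟨a, ha, rfl⟩ ⟨b, hb, rfl⟩
          exact ⟨a + b, M.add_mem ha hb, map_add _ _ _⟩
        zero_mem' := ⟨0, M.zero_mem, map_zero _⟩
        smul_mem' := by
          rintro c _ ⟨a, ha, rfl⟩
          refine ⟨σ.symm c • a, M.smul_mem _ ha, ?_⟩
          rw [h.map_smulW, RingEquiv.apply_symm_apply] }
    have : im G M ≤ S := Submodule.span_le.mpr (by rintro _ ⟨x, hx, rfl⟩; exact ⟨x, hx, rfl⟩)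
    exact this hy
  · rintro ⟨x, hx, rfl⟩
    exact Submodule.subset_span ⟨x, hx, rfl⟩

end TwBy

theorem mem_im_of_mem {G : AddMonoid.End N} {M : Submodule W N} {x : N} (hx : x ∈ M) :
    G x ∈ im G M := Submodule.subset_span ⟨x, hx, rfl⟩

theorem im_le_iff {G : AddMonoid.End N} {M M' : Submodule W N} :
    im G M ≤ M' ↔ ∀ x ∈ M, G x ∈ M' := by
  rw [im, Submodule.span_le]
  exact ⟨fun h x hx => h ⟨x, hx, rfl⟩, fun h => by rintro _ ⟨x, hx, rfl⟩; exact h x hx⟩

theorem im_mono {G : AddMonoid.End N} {M M' : Submodule W N} (h : M ≤ M') : im G M ≤ im G M' :=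
  im_le_iff.mpr fun _ hx => mem_im_of_mem (h hx)

theorem im_sup {G : AddMonoid.End N} {M M' : Submodule W N} :
    im G (M ⊔ M') = im G M ⊔ im G M' := by
  apply le_antisymm
  · rw [im_le_iff]
    intro x hx
    obtain ⟨a, ha, b, hb, rfl⟩ := Submodule.mem_sup.mp hx
    rw [map_add]
    exact Submodule.add_mem_sup (mem_im_of_mem ha) (mem_im_of_mem hb)
  · exact sup_le (im_mono le_sup_left) (im_mono le_sup_right)

theorem im_iSup {ι : Sort*} {G : AddMonoid.End N} {M : ι → Submodule W N} :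
    im G (⨆ i, M i) = ⨆ i, im G (M i) := by
  apply le_antisymm
  · rw [im_le_iff]
    intro x hx
    refine Submodule.iSup_induction M (motive := fun x => G x ∈ ⨆ i, im G (M i)) hx ?_ ?_ ?_
    · intro i x hx
      exact Submodule.mem_iSup_of_mem i (mem_im_of_mem hx)
    · rw [map_zero]; exact Submodule.zero_mem _
    · intro x y hx hy
      rw [map_add]; exact Submodule.add_mem _ hx hy
  · exact iSup_le fun i => im_mono (le_iSup M i)

theorem im_one {M : Submodule W N} : im (1 : AddMonoid.End N) M = M := by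
  apply le_antisymm
  · exact im_le_iff.mpr fun _ hx => hx
  · intro x hx; exact mem_im_of_mem (G := (1 : AddMonoid.End N)) hx

theorem im_mul {τ' : L ≃+* L} {σ' : W ≃+* W} {G H : AddMonoid.End N} (h : TwBy τ' σ' H)
    {M : Submodule W N} : im (G * H) M = im G (im H M) := by
  apply le_antisymm
  · exact im_le_iff.mpr fun x hx => mem_im_of_mem (G := G) (mem_im_of_mem (G := H) hx)
  · rw [im_le_iff]
    intro x hx
    obtain ⟨y, hy, rfl⟩ := h.mem_im.mp hx
    exact mem_im_of_mem (G := G * H) hy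

/-! ### scaling -/

variable {p : ℕ}

theorem mem_sc (hp : (p : L) ≠ 0) {r : ℤ} {M : Submodule W N} {y : N} :
    y ∈ sc L p r M ↔ ((p : L) ^ (-r)) • y ∈ M := by
  rw [sc, Submodule.mem_smul_pointwise_iff_exists]
  constructor
  · rintro ⟨x, hx, rfl⟩
    rwa [smul_smul, ← zpow_add₀ hp, neg_add_cancel, zpow_zero, one_smul]
  · intro h
    refine ⟨_, h, ?_⟩
    rw [smul_smul, ← zpow_add₀ hp, add_neg_cancel, zpow_zero, one_smul]

theorem smul_mem_sc (hp : (p : L) ≠ 0) {r s : ℤ} {M : Submodule W N} {y : N}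
    (h : y ∈ sc L p s M) : ((p : L) ^ r) • y ∈ sc L p (r + s) M := by
  rw [mem_sc hp] at h ⊢
  rwa [smul_smul, ← zpow_add₀ hp, show -(r + s) + r = -s by ring]

theorem smul_mem_sc_iff (hp : (p : L) ≠ 0) {r s : ℤ} {M : Submodule W N} {y : N} :
    ((p : L) ^ r) • y ∈ sc L p s M ↔ y ∈ sc L p (s - r) M := by
  rw [mem_sc hp, mem_sc hp, smul_smul, ← zpow_add₀ hp, show -s + r = -(s - r) by ring]

theorem sc_zero {M : Submodule W N} : sc L p 0 M = M := by
  rw [sc, zpow_zero, one_smul]

theorem sc_sc (hp : (p : L) ≠ 0) {r s : ℤ} {M : Submodule W N} :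
    sc L p r (sc L p s M) = sc L p (r + s) M := by
  rw [sc, sc, sc, smul_smul, ← zpow_add₀ hp]

theorem sc_mono {r : ℤ} {M M' : Submodule W N} (h : M ≤ M') : sc L p r M ≤ sc L p r M' := by
  intro x hx
  rw [sc, Submodule.mem_smul_pointwise_iff_exists] at hx ⊢
  obtain ⟨y, hy, rfl⟩ := hx
  exact ⟨y, h hy, rfl⟩

theorem sc_le_sc_iff (hp : (p : L) ≠ 0) {r : ℤ} {M M' : Submodule W N} :
    sc L p r M ≤ sc L p r M' ↔ M ≤ M' := by
  refine ⟨fun h => ?_, sc_mono⟩
  have := sc_mono (L := L) (p := p) (r := -r) h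
  rwa [sc_sc hp, sc_sc hp, neg_add_cancel, sc_zero, sc_zero] at this

theorem sc_inj (hp : (p : L) ≠ 0) {r : ℤ} {M M' : Submodule W N} :
    sc L p r M = sc L p r M' ↔ M = M' := by
  rw [le_antisymm_iff, sc_le_sc_iff hp, sc_le_sc_iff hp, ← le_antisymm_iff]

theorem le_sc_iff (hp : (p : L) ≠ 0) {r : ℤ} {M M' : Submodule W N} :
    M ≤ sc L p r M' ↔ sc L p (-r) M ≤ M' := by
  rw [← sc_le_sc_iff hp (r := -r) (M' := sc L p r M'), sc_sc hp, neg_add_cancel, sc_zero]

theorem sc_nat_le (n : ℕ) (M : Submodule W N) : sc L p (n : ℤ) M ≤ M := by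
  intro x hx
  rw [sc, Submodule.mem_smul_pointwise_iff_exists] at hx
  obtain ⟨y, hy, rfl⟩ := hx
  have : ((p : L) ^ (n : ℤ)) • y = ((p : W) ^ n) • y := by
    rw [← algebraMap_smul L ((p : W) ^ n) y, map_pow, map_natCast, zpow_natCast]
  rw [this]
  exact M.smul_mem _ hy

theorem sc_anti (hp : (p : L) ≠ 0) {r s : ℤ} (h : r ≤ s) (M : Submodule W N) :
    sc L p s M ≤ sc L p r M := by
  obtain ⟨n, hn⟩ := Int.eq_ofNat_of_zero_le (sub_nonneg.mpr h)
  have : s = r + n := by omega
  rw [this, ← sc_sc hp]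
  exact sc_mono (sc_nat_le n M)

theorem sc_sup {r : ℤ} {M M' : Submodule W N} :
    sc L p r (M ⊔ M') = sc L p r M ⊔ sc L p r M' := Submodule.smul_sup' _ _ _

theorem sc_iSup (hp : (p : L) ≠ 0) {ι : Sort*} {r : ℤ} {M : ι → Submodule W N} :
    sc L p r (⨆ i, M i) = ⨆ i, sc L p r (M i) := by
  apply le_antisymm
  · rw [← neg_neg r, ← le_sc_iff hp]
    refine iSup_le fun i => ?_
    rw [le_sc_iff hp, neg_neg]
    exact le_iSup (fun i => sc L p r (M i)) i
  · exact iSup_le fun i => sc_mono (le_iSup M i)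

theorem sc_inf (hp : (p : L) ≠ 0) {r : ℤ} {M M' : Submodule W N} :
    sc L p r (M ⊓ M') = sc L p r M ⊓ sc L p r M' := by
  ext x
  rw [Submodule.mem_inf, mem_sc hp, mem_sc hp, mem_sc hp, Submodule.mem_inf]

variable {τ : L ≃+* L} {σ : W ≃+* W} {G H : AddMonoid.End N}

theorem TwBy.map_zpow_smul (h : TwBy τ σ G) (r : ℤ) (x : N) :
    G (((p : L) ^ r) • x) = ((p : L) ^ r) • G x := by
  rw [h.map_smul, map_zpow₀, map_natCast]

theorem im_sc (hp : (p : L) ≠ 0) (h : TwBy τ σ G) {r : ℤ} {M : Submodule W N} :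
    im G (sc L p r M) = sc L p r (im G M) := by
  ext y
  rw [mem_sc hp, h.mem_im, h.mem_im]
  constructor
  · rintro ⟨x, hx, rfl⟩
    rw [mem_sc hp] at hx
    exact ⟨_, hx, h.map_zpow_smul _ _⟩
  · rintro ⟨x, hx, hxy⟩
    refine ⟨((p : L) ^ r) • x, ?_, ?_⟩
    · rw [mem_sc hp, smul_smul, ← zpow_add₀ hp, neg_add_cancel, zpow_zero, one_smul]
      exact hx
    · rw [h.map_zpow_smul, hxy, smul_smul, ← zpow_add₀ hp, add_neg_cancel, zpow_zero, one_smul]

variable (N) in
/-- scaling operator by `p ^ r` -/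
def scal (p : ℕ) (r : ℤ) : AddMonoid.End N := sca N ((p : L) ^ r)

theorem scal_apply (r : ℤ) (x : N) : scal (L := L) N p r x = ((p : L) ^ r) • x := rfl

theorem scal_zero : scal (L := L) N p 0 = 1 := by
  ext x
  change ((p : L) ^ (0 : ℤ)) • x = x
  rw [zpow_zero, one_smul]

theorem scal_mul (hp : (p : L) ≠ 0) (r s : ℤ) :
    scal (L := L) N p r * scal (L := L) N p s = scal (L := L) N p (r + s) := by
  ext x
  change ((p : L) ^ r) • ((p : L) ^ s) • x = ((p : L) ^ (r + s)) • x
  rw [smul_smul, zpow_add₀ hp]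

theorem TwBy.scal_mul_comm (h : TwBy τ σ G) (r : ℤ) :
    scal (L := L) N p r * G = G * scal (L := L) N p r := by
  ext x
  exact (h.map_zpow_smul r x).symm

theorem TwBy.scal (h : TwBy τ σ G) (r : ℤ) : TwBy τ σ (scal (L := L) N p r * G) := h.smul _

theorem im_scal_mul {r : ℤ} {M : Submodule W N} :
    im (scal (L := L) N p r * G) M = sc L p r (im G M) := by
  rw [im, im, sc, Submodule.smul_span]
  congr 1
  ext x
  constructor
  · rintro ⟨y, hy, rfl⟩
    exact ⟨G y, ⟨y, hy, rfl⟩, rfl⟩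
  · rintro ⟨_, ⟨y, hy, rfl⟩, rfl⟩
    exact ⟨y, hy, rfl⟩

theorem scal_pow (hp : (p : L) ≠ 0) (r : ℤ) (n : ℕ) :
    scal (L := L) N p r ^ n = scal (L := L) N p (n * r) := by
  induction n with
  | zero => rw [pow_zero]; simp [scal_zero]
  | succ n ih => rw [pow_succ, ih, scal_mul hp]; congr 1; push_cast; ring

theorem TwBy.scal_mul_pow (hp : (p : L) ≠ 0) (h : TwBy τ σ G) (r : ℤ) (n : ℕ) :
    (K923.Basic.scal (L := L) N p r * G) ^ n = K923.Basic.scal (L := L) N p (n * r) * G ^ n := by
  rw [(show Commute (K923.Basic.scal (L := L) N p r) G from h.scal_mul_comm r).mul_pow, scal_pow hp]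

/-- powers of an operator preserving M -/
theorem im_pow_le (h : TwBy τ σ G) {M : Submodule W N} (hM : im G M ≤ M) (n : ℕ) :
    im (G ^ n) M ≤ M := by
  induction n with
  | zero => rw [pow_zero, im_one]
  | succ n ih => rw [pow_succ, im_mul h]; exact (im_mono hM).trans ih

theorem im_pow_le_sc (hp : (p : L) ≠ 0) (h : TwBy τ σ G) {M : Submodule W N} {r : ℤ}
    (hM : im G M ≤ sc L p r M) (n : ℕ) : im (G ^ n) M ≤ sc L p (n * r) M := by
  induction n with
  | zero => rw [pow_zero, im_one]; simp [sc_zero]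
  | succ n ih =>
    rw [pow_succ, im_mul h]
    refine (im_mono hM).trans ?_
    rw [im_sc hp (h.pow n)]
    refine (sc_mono ih).trans ?_
    rw [sc_sc hp]
    apply le_of_eq
    congr 1
    push_cast; ring

theorem im_pow_eq_sc (hp : (p : L) ≠ 0) (h : TwBy τ σ G) {M : Submodule W N} {r : ℤ}
    (hM : im G M = sc L p r M) (n : ℕ) : im (G ^ n) M = sc L p (n * r) M := by
  induction n with
  | zero => rw [pow_zero, im_one]; simp [sc_zero]
  | succ n ih =>
    rw [pow_succ, im_mul h, hM, im_sc hp (h.pow n), ih, sc_sc hp]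
    congr 1
    push_cast; ring

end Defs

end K923.Basic
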