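import Groth.Agent.Isoc.K923.Lat
import Mathlib.RingTheory.Length
import Mathlib.RingTheory.SimpleModule.Basic

/-!
# Chains of submodules between `p M` and `M`
-/

set_option autoImplicit false
set_option linter.unusedSectionVars false

open scoped Pointwise

namespace K923.Chain

open K923.Basic K923.Lat

variable {W L : Type*} [CommRing W] [IsDomain W] [IsDiscreteValuationRing W] [Field L]
  [Algebra W L] [IsFractionRing W L]
variable {N : Type*} [AddCommGroup N] [Module W N] [Module L N] [IsScalarTower W L N]
variable {p : ℕ} (hp : Irreducible (p : W))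

theorem free_of_isLattice {M : Submodule W N} (hM : M.IsLattice L) : Module.Free W M := by
  have : Module.IsTorsionFree W L := inferInstance
  exact Submodule.IsLattice.free L M

theorem finite_of_isLattice {M : Submodule W N} (hM : M.IsLattice L) : Module.Finite W M :=
  Module.Finite.iff_fg.mpr hM.fg

theorem moduleFinite_of_isLattice {M : Submodule W N} (hM : M.IsLattice L) : Module.Finite L N := by
  obtain ⟨S, hS⟩ := hM.fg
  refine ⟨⟨S, ?_⟩⟩
  rw [← hM.span_eq_top, ← hS, Submodule.span_span_of_tower]

theorem exists_basis {M : Submodule W N} (hM : M.IsLattice L) {h : ℕ}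
    (hh : Module.finrank L N = h) : Nonempty (Module.Basis (Fin h) W M) := by
  have := free_of_isLattice hM
  have := finite_of_isLattice hM
  have h1 : Module.finrank W M = h := by
    rw [← hh]
    exact congrArg Cardinal.toNat (Submodule.IsLattice.rank' L M)
  exact ⟨Module.finBasisOfFinrankEq W M h1⟩

include hp in
theorem length_le {M : Submodule W N} (hM : M.IsLattice L) {h : ℕ}
    (hh : Module.finrank L N = h) :
    Module.length W (Submodule.map (sc L p 1 M).mkQ M) ≤ h := by
  obtain ⟨b⟩ := exists_basis hM hh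
  let I : Ideal W := Ideal.span {(p : W)}
  let φ := (sc L p 1 M).mkQ
  have hker : ∀ x ∈ M, (p : W) • φ x = 0 := by
    intro x hx
    rw [← map_smul]
    change Submodule.Quotient.mk _ = _
    rw [Submodule.Quotient.mk_eq_zero, sc, Submodule.mem_smul_pointwise_iff_exists]
    refine ⟨x, hx, ?_⟩
    rw [zpow_one, ← algebraMap_smul L (p : W) x, map_natCast]
  let f : Fin h → ((W ⧸ I) →ₗ[W] (N ⧸ sc L p 1 M)) := fun j =>
    Submodule.liftQ I (LinearMap.toSpanSingleton W _ (φ (b j))) (by
      rw [Ideal.span_le]
      rintro _ rfl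
      exact hker _ (b j).2)
  let g : (Fin h → (W ⧸ I)) →ₗ[W] (N ⧸ sc L p 1 M) := ∑ j, (f j) ∘ₗ LinearMap.proj j
  have hg : ∀ c : Fin h → W, g (fun j => Ideal.Quotient.mk I (c j)) = φ (∑ j, c j • (b j : N)) := by
    intro c
    simp only [g, LinearMap.sum_apply, LinearMap.comp_apply, LinearMap.proj_apply, map_sum, map_smul]
    rfl
  have hle : Submodule.map φ M ≤ LinearMap.range g := by
    rintro _ ⟨x, hx, rfl⟩
    have hx' : (x : N) = ∑ j, (b.repr ⟨x, hx⟩ j) • (b j : N) := by
      conv_lhs => rw [show x = ((⟨x, hx⟩ : M) : N) from rfl, ← b.sum_repr ⟨x, hx⟩]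
      rw [Submodule.coe_sum]
      rfl
    refine ⟨_, (hg (fun j => b.repr ⟨x, hx⟩ j)).trans ?_⟩
    rw [← hx']
  have hsimple : IsSimpleModule W (W ⧸ I) := by
    rw [isSimpleModule_iff_isCoatom]
    exact (PrincipalIdealRing.isMaximal_of_irreducible hp).out
  calc Module.length W (Submodule.map φ M) ≤ Module.length W (LinearMap.range g) :=
        Module.length_le_of_injective (Submodule.inclusion hle) (Submodule.inclusion_injective hle)
    _ ≤ Module.length W (Fin h → (W ⧸ I)) :=
        Module.length_le_of_surjective g.rangeRestrict g.surjective_rangeRestrict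
    _ = h := by
        rw [Module.length_pi_of_fintype]
        simp [Module.length_eq_one]

include hp in
/-- a chain of submodules between `p M` and `M` stabilises within `h` steps -/
theorem chain {M : Submodule W N} (hM : M.IsLattice L) {h : ℕ}
    (hh : Module.finrank L N = h) (C : ℕ → Submodule W N)
    (hmono : ∀ i ≤ h, C i ≤ C (i + 1)) (hlo : ∀ i ≤ h + 1, sc L p 1 M ≤ C i)
    (hhi : ∀ i ≤ h + 1, C i ≤ M) : ∃ i ≤ h, C i = C (i + 1) := by
  by_contra hcon
  push Not at hcon
  have hlt : ∀ i ≤ h, Submodule.map (sc L p 1 M).mkQ (C i) <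
      Submodule.map (sc L p 1 M).mkQ (C (i + 1)) := by
    intro i hi
    refine lt_of_le_of_ne (Submodule.map_mono (hmono i hi)) fun heq => hcon i hi ?_
    have := congrArg (Submodule.comap (sc L p 1 M).mkQ) heq
    rwa [Submodule.comap_map_mkQ, Submodule.comap_map_mkQ, sup_eq_right.mpr (hlo i (by omega)),
      sup_eq_right.mpr (hlo (i + 1) (by omega))] at this
  have hht : ∀ i ≤ h + 1, (i : ℕ∞) ≤ Order.height (Submodule.map (sc L p 1 M).mkQ (C i)) := by
    intro i
    induction i with
    | zero => intro _; simp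
    | succ i ih =>
      intro hi
      refine le_trans ?_ (Order.height_add_one_le (hlt i (by omega)))
      push_cast
      gcongr
      exact ih (by omega)
  have h1 := hht (h + 1) le_rfl
  have h2 : Order.height (Submodule.map (sc L p 1 M).mkQ (C (h + 1))) ≤ (h : ℕ∞) := by
    refine (Order.height_mono (Submodule.map_mono (hhi (h + 1) le_rfl))).trans ?_
    rw [← Module.length_submodule]
    exact length_le hp hM hh
  have h3 := h1.trans h2
  have h4 : h + 1 ≤ h := by exact_mod_cast h3
  omega

include hp in
/-- descending version -/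
theorem chain' {M : Submodule W N} (hM : M.IsLattice L) {h : ℕ}
    (hh : Module.finrank L N = h) (C : ℕ → Submodule W N)
    (hmono : ∀ i ≤ h, C (i + 1) ≤ C i) (hlo : ∀ i ≤ h + 1, sc L p 1 M ≤ C i)
    (hhi : ∀ i ≤ h + 1, C i ≤ M) : ∃ i ≤ h, C i = C (i + 1) := by
  obtain ⟨i, hi, hi'⟩ := chain hp hM hh (fun i => C (h + 1 - i))
    (by
      intro i hi
      have := hmono (h - i) (by omega)
      rwa [show h - i + 1 = h + 1 - i by omega, show h - i = h + 1 - (i + 1) by omega] at this)
    (fun i _ => hlo _ (by omega)) (fun i _ => hhi _ (by omega))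
  refine ⟨h - i, by omega, ?_⟩
  rw [show h - i + 1 = h + 1 - i by omega, show h - i = h + 1 - (i + 1) by omega]
  exact hi'.symm

end K923.Chain
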