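import Groth.Agent.Isoc.K923.Eff
import Groth.Prelude.Def_Isoc

/-!
# Dictionary between `Isoc` and the abstract calculus
-/

set_option autoImplicit false
set_option linter.unusedSectionVars false

open scoped Pointwise Topology
open Filter

namespace K923.Conn

open K923.Basic K923.Lat K923.Det K923.Slope

universe u v

variable (p : ℕ) [Fact p.Prime] (k : Type u) [Field k] [CharP k p] [PerfectRing k p]

theorem hp : Irreducible (p : WittVector p k) := WittVector.irreducible p

/-- `σ ^ a` on the fraction field as an automorphism -/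
noncomputable def tau (a : ℤ) :
    FractionRing (WittVector p k) ≃+* FractionRing (WittVector p k) :=
  IsFractionRing.ringEquivOfRingEquiv (WittVector.frobeniusEquiv p k ^ a)

theorem frob_eq (a : ℤ) (x : FractionRing (WittVector p k)) : Isoc.frob p k a x = tau p k a x := rfl

variable {p k}
variable {N : Type v} [AddCommGroup N] [Module (WittVector p k) N]
  [Module (FractionRing (WittVector p k)) N]
  [IsScalarTower (WittVector p k) (FractionRing (WittVector p k)) N] {a : ℤ}

section
variable {τ : FractionRing (WittVector p k) →+* FractionRing (WittVector p k)}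

/-- the additive endomorphism underlying `F` -/
noncomputable def op (F : N →ₛₗ[τ] N) : AddMonoid.End N := F.toAddMonoidHom

theorem op_apply (F : N →ₛₗ[τ] N) (x : N) : op F x = F x := rfl

theorem op_pow_apply (F : N →ₛₗ[τ] N) (n : ℕ) (x : N) : (op F ^ n) x = (⇑F)^[n] x := rfl

theorem latImg_eq (F : N →ₛₗ[τ] N) (s : ℕ) (M : Submodule (WittVector p k) N) :
    Isoc.latImg F s M = im (op F ^ s) M := rfl

theorem pPow_eq (r : ℤ) (M : Submodule (WittVector p k) N) :
    Isoc.pPow r M = sc (FractionRing (WittVector p k)) p r M := rfl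

theorem op_smul_iter (F : N →ₛₗ[τ] N) (m : ℤ) (n : ℕ) :
    op (((p : FractionRing (WittVector p k)) ^ m) • Isoc.iter F n) =
      scal (L := FractionRing (WittVector p k)) N p m * op F ^ n := rfl

theorem isOrd_iff (M : Submodule (WittVector p k) N) (F : N →ₛₗ[τ] N) (s : ℕ) (r : ℤ) :
    Isoc.IsOrd M F s r ↔ Ord (FractionRing (WittVector p k)) p M (op F ^ s) r := Iff.rfl

theorem isFirstSlope_iff (F : N →ₛₗ[τ] N) (lam : ℝ) :
    Isoc.IsFirstSlope F lam ↔
      FirstSlope (WittVector p k) (FractionRing (WittVector p k)) p (op F) lam := Iff.rfl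

theorem isOrdP_iff (c : FractionRing (WittVector p k)) (r : ℤ) :
    Isoc.IsOrdP c r ↔ OrdP (WittVector p k) p c r := Iff.rfl

theorem detCoeff_eq {n : ℕ} (b : Module.Basis (Fin n) (FractionRing (WittVector p k)) N)
    (F : N →ₛₗ[τ] N) : Isoc.detCoeff b F = (mat b (op F)).det := by
  rw [Isoc.detCoeff, mat]
  rfl

end

theorem twBy (F : N →ₛₗ[Isoc.frob p k a] N) :
    TwBy (tau p k a) (WittVector.frobeniusEquiv p k ^ a) (op F) where
  compat w := Isoc.frob_algebraMap p k a w
  map_smul c x := by
    change F (c • x) = _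
    rw [F.map_smulₛₗ]
    rfl

theorem ordDet (F : N →ₛₗ[Isoc.frob p k a] N) {n : ℕ}
    (b : Module.Basis (Fin n) (FractionRing (WittVector p k)) N) {d : ℤ}
    (hd : Isoc.IsOrdP (Isoc.detCoeff b F) d) :
    OrdDet (WittVector p k) (FractionRing (WittVector p k)) p (op F) d :=
  ⟨n, b, by rwa [isOrdP_iff, detCoeff_eq] at hd⟩

theorem bij {F : N →ₛₗ[Isoc.frob p k a] N} (hF : Isoc.IsIsoc F) : Function.Bijective (op F) :=
  hF.bijective

end K923.Conn
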