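import Groth.Agent.Isoc.K923.Eff
import Mathlib.Order.CompactlyGenerated.Basic

/-!
# Isoclinic submodules
-/

set_option autoImplicit false
set_option linter.unusedSectionVars false

open scoped Pointwise

namespace K923.Iso

open K923.Basic K923.Lat K923.Det

section Map

variable {W L : Type*} [CommRing W] [Field L] [Algebra W L]
variable {N₁ : Type*} [AddCommGroup N₁] [Module W N₁] [Module L N₁] [IsScalarTower W L N₁]
variable {N₂ : Type*} [AddCommGroup N₂] [Module W N₂] [Module L N₂] [IsScalarTower W L N₂]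
variable {G₁ : AddMonoid.End N₁} {G₂ : AddMonoid.End N₂} {p : ℕ}

variable (W) in
/-- the underlying `W`-linear map -/
def resW (f : N₁ →ₗ[L] N₂) : N₁ →ₗ[W] N₂ := f.restrictScalars W

theorem resW_apply (f : N₁ →ₗ[L] N₂) (x : N₁) : resW W f x = f x := rfl

theorem im_map (f : N₁ →ₗ[L] N₂) (hf : ∀ x, f (G₁ x) = G₂ (f x)) (M : Submodule W N₁) :
    im G₂ (M.map (resW W f)) = (im G₁ M).map (resW W f) := by
  rw [im, im, Submodule.map_span, Submodule.map_coe, Set.image_image, Set.image_image]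
  congr 1
  refine Set.image_congr fun x _ => (hf x).symm

theorem sc_map (f : N₁ →ₗ[L] N₂) (r : ℤ) (M : Submodule W N₁) :
    sc L p r (M.map (resW W f)) = (sc L p r M).map (resW W f) := by
  ext y
  simp only [sc, Submodule.mem_smul_pointwise_iff_exists, Submodule.mem_map]
  constructor
  · rintro ⟨_, ⟨x, hx, rfl⟩, rfl⟩
    exact ⟨((p : L) ^ r) • x, ⟨x, hx, rfl⟩, by rw [resW_apply, resW_apply, map_smul]⟩
  · rintro ⟨_, ⟨x, hx, rfl⟩, rfl⟩
    exact ⟨f x, ⟨x, hx, rfl⟩, by rw [resW_apply, map_smul]⟩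

theorem sc_comap (hp0 : (p : L) ≠ 0) (f : N₁ →ₗ[L] N₂) (r : ℤ) (M : Submodule W N₂) :
    sc L p r (M.comap (resW W f)) = (sc L p r M).comap (resW W f) := by
  ext y
  rw [mem_sc hp0, Submodule.mem_comap, Submodule.mem_comap, mem_sc hp0, resW_apply, resW_apply,
    map_smul]

theorem pow_comm (f : N₁ →ₗ[L] N₂) (hf : ∀ x, f (G₁ x) = G₂ (f x)) (n : ℕ) (x : N₁) :
    f ((G₁ ^ n) x) = (G₂ ^ n) (f x) := by
  induction n generalizing x with
  | zero => rfl
  | succ n ih =>
    rw [pow_succ, pow_succ]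
    change f ((G₁ ^ n) (G₁ x)) = (G₂ ^ n) (G₂ (f x))
    rw [ih, hf]

theorem im_comap {τ : L ≃+* L} {σ : W ≃+* W} (h₁ : TwBy τ σ G₁) (h₂ : TwBy τ σ G₂)
    (f : N₁ →ₗ[L] N₂) (hf : ∀ x, f (G₁ x) = G₂ (f x))
    (h1 : Function.Surjective G₁) (h2 : Function.Injective G₂) (M : Submodule W N₂) :
    im G₁ (M.comap (resW W f)) = (im G₂ M).comap (resW W f) := by
  ext y
  rw [h₁.mem_im, Submodule.mem_comap, h₂.mem_im]
  constructor
  · rintro ⟨x, hx, rfl⟩
    exact ⟨f x, hx, (hf x).symm⟩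
  · rintro ⟨z, hz, hzy⟩
    obtain ⟨x, rfl⟩ := h1 y
    refine ⟨x, ?_, rfl⟩
    rw [resW_apply, hf] at hzy
    rw [Submodule.mem_comap, resW_apply, ← h2 hzy]
    exact hz

theorem im_le_im_iff {τ : L ≃+* L} {σ : W ≃+* W} (h₁ : TwBy τ σ G₁)
    (h1 : Function.Injective G₁) {A B : Submodule W N₁} : im G₁ A ≤ im G₁ B ↔ A ≤ B := by
  refine ⟨fun h x hx => ?_, im_mono⟩
  obtain ⟨y, hy, hyx⟩ := h₁.mem_im.mp (h (mem_im_of_mem hx))
  rwa [← h1 hyx]

end Map

variable {W L : Type*} [CommRing W] [IsDomain W] [IsDiscreteValuationRing W] [Field L]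
  [Algebra W L] [IsFractionRing W L]
variable {N : Type*} [AddCommGroup N] [Module W N] [Module L N] [IsScalarTower W L N]
variable {N₁ : Type*} [AddCommGroup N₁] [Module W N₁] [Module L N₁] [IsScalarTower W L N₁]
variable {N₂ : Type*} [AddCommGroup N₂] [Module W N₂] [Module L N₂] [IsScalarTower W L N₂]
variable {p : ℕ} (hp : Irreducible (p : W))
variable {τ τ' : L ≃+* L} {σ σ' : W ≃+* W} {G H : AddMonoid.End N}
variable {G₁ : AddMonoid.End N₁} {G₂ : AddMonoid.End N₂}

include hp in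
theorem isLattice_map {f : N₁ →ₗ[L] N₂} (hf : Function.Surjective f) {M : Submodule W N₁}
    (hM : M.IsLattice L) : (M.map (resW W f)).IsLattice L := by
  rw [isLattice_iff hp] at hM ⊢
  refine ⟨hM.1.map _, fun y => ?_⟩
  obtain ⟨x, rfl⟩ := hf y
  obtain ⟨n, hn⟩ := hM.2 x
  exact ⟨n, _, hn, by rw [resW_apply, map_smul]⟩

include hp in
theorem fg_comap {f : N₁ →ₗ[L] N₂} (hf : Function.Injective f) {M : Submodule W N₂}
    (hM : M.FG) : (M.comap (resW W f)).FG := by
  have : Module.Finite W M := Module.Finite.iff_fg.mpr hM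
  have hn : IsNoetherian W M := isNoetherian_of_isNoetherianRing_of_finite W M
  let g : M.comap (resW W f) →ₗ[W] M :=
    ((resW W f).comp (M.comap (resW W f)).subtype).codRestrict M (fun x => x.2)
  have hg : Function.Injective g := by
    intro x y hxy
    have := congrArg Subtype.val hxy
    exact Subtype.ext (hf this)
  have : IsNoetherian W (M.comap (resW W f)) := isNoetherian_of_injective g hg
  exact Module.Finite.iff_fg.mp inferInstance

include hp in
theorem isLattice_comap {f : N₁ →ₗ[L] N₂} (hf : Function.Injective f) {M : Submodule W N₂}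
    (hM : M.IsLattice L) : (M.comap (resW W f)).IsLattice L := by
  refine (isLattice_iff hp).mpr ⟨fg_comap hp hf hM.fg, fun x => ?_⟩
  obtain ⟨n, hn⟩ := ((isLattice_iff hp).mp hM).2 (f x)
  exact ⟨n, by rwa [Submodule.mem_comap, resW_apply, map_smul]⟩

include hp in
/-- morphisms between isoclinic objects of different slopes vanish -/
theorem hom_zero (h₁ : TwBy τ σ G₁) (h₂ : TwBy τ' σ' G₂) (hinj : Function.Injective G₂)
    {M₁ : Submodule W N₁} {M₂ : Submodule W N₂} (hM₁ : M₁.IsLattice L) (hM₂ : M₂.IsLattice L)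
    {a₁ a₂ : ℤ} (ha₁ : im G₁ M₁ = sc L p a₁ M₁) (ha₂ : im G₂ M₂ = sc L p a₂ M₂) (hne : a₁ ≠ a₂)
    (f : N₁ →ₗ[L] N₂) (hf : ∀ x, f (G₁ x) = G₂ (f x)) : f = 0 := by
  have hp0 : (p : L) ≠ 0 := p_ne hp
  obtain ⟨c, hc⟩ := exists_le_sc hp (hM₁.fg.map (resW W f)) hM₂
  have hfn := pow_comm f hf
  have key : ∀ n : ℕ, M₁.map (resW W f) ≤ sc L p (n - c) M₂ := by
    rcases lt_or_gt_of_ne hne with hlt | hlt
    · have h1 : ∀ n : ℕ, M₁.map (resW W f) ≤ sc L p (n * (a₂ - a₁) - c) M₂ := by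
        intro n
        have h2 : sc L p (n * a₁) (M₁.map (resW W f)) ≤ sc L p (-c + n * a₂) M₂ := by
          rw [sc_map, ← im_pow_eq_sc hp0 h₁ ha₁ n, ← im_map f (hfn n)]
          refine (im_mono hc).trans ?_
          rw [im_sc hp0 (h₂.pow n), im_pow_eq_sc hp0 h₂ ha₂ n, sc_sc hp0]
        have h3 := sc_mono (L := L) (p := p) (r := -(n * a₁)) h2
        rw [sc_sc hp0, sc_sc hp0, neg_add_cancel, sc_zero] at h3
        convert h3 using 2
        ring
      intro n
      refine (h1 n).trans (sc_anti hp0 ?_ M₂)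
      have : (n : ℤ) * 1 ≤ n * (a₂ - a₁) := by gcongr; omega
      linarith
    · have h1 : ∀ n : ℕ, M₁.map (resW W f) ≤ sc L p (n * (a₁ - a₂) - c) M₂ := by
        intro n
        have h2 : sc L p (-(n * a₁)) (M₁.map (resW W f)) ≤ sc L p (-c - n * a₂) M₂ := by
          rw [← im_le_im_iff (h₂.pow n) (by
            rw [AddMonoid.End.coe_pow]; exact hinj.iterate n), sc_map, im_map f (hfn n),
            im_sc hp0 (h₁.pow n), im_pow_eq_sc hp0 h₁ ha₁ n, sc_sc hp0, neg_add_cancel, sc_zero,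
            im_sc hp0 (h₂.pow n), im_pow_eq_sc hp0 h₂ ha₂ n, sc_sc hp0, sub_add_cancel]
          exact hc
        have h3 := sc_mono (L := L) (p := p) (r := (n * a₁)) h2
        rw [sc_sc hp0, sc_sc hp0, add_neg_cancel, sc_zero] at h3
        convert h3 using 2
        ring
      intro n
      refine (h1 n).trans (sc_anti hp0 ?_ M₂)
      have : (n : ℤ) * 1 ≤ n * (a₁ - a₂) := by gcongr; omega
      linarith
  ext x
  obtain ⟨n, hn⟩ := ((isLattice_iff hp).mp hM₁).2 x
  have h1 : f (((p : L) ^ n) • x) = 0 := by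
    apply eq_zero_of_forall_mem_sc (L := L) hp hM₂.fg
    intro m
    have := key (m + c) (Submodule.mem_map_of_mem hn)
    push_cast at this
    rwa [add_sub_cancel_right] at this
  rw [map_smul] at h1
  exact (smul_eq_zero.mp h1).resolve_left (pow_ne_zero _ hp0)

/-! ### isoclinic subspaces -/

variable (W) in
/-- `P` is `G`-stable and isoclinic of slope `μ` (with a witnessing lattice of `P` inside `N`) -/
def IsoIn (p : ℕ) (G : AddMonoid.End N) (μ : ℚ) (P : Submodule L N) : Prop :=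
  (∀ x ∈ P, G x ∈ P) ∧ ∃ M : Submodule W N, M.FG ∧ Submodule.span L (M : Set N) = P ∧
    ∃ (r : ℤ) (s : ℕ), 0 < s ∧ (r : ℚ) / s = μ ∧ im (G ^ s) M = sc L p r M

include hp in
theorem IsoIn.sup (h : TwBy τ σ G) {μ : ℚ} {P Q : Submodule L N} (hP : IsoIn W p G μ P)
    (hQ : IsoIn W p G μ Q) : IsoIn W p G μ (P ⊔ Q) := by
  have hp0 : (p : L) ≠ 0 := p_ne hp
  obtain ⟨hP, M, hM, hMP, r, s, hs, hrs, hi⟩ := hP
  obtain ⟨hQ, M', hM', hMQ, r', s', hs', hrs', hi'⟩ := hQ
  refine ⟨?_, M ⊔ M', hM.sup hM', ?_, s' * r, s * s', Nat.mul_pos hs hs', ?_, ?_⟩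
  · intro x hx
    obtain ⟨a, ha, b, hb, rfl⟩ := Submodule.mem_sup.mp hx
    rw [map_add]
    exact Submodule.add_mem_sup (hP a ha) (hQ b hb)
  · apply le_antisymm
    · rw [Submodule.span_le]
      intro x hx
      obtain ⟨a, ha, b, hb, rfl⟩ := Submodule.mem_sup.mp hx
      refine Submodule.add_mem_sup ?_ ?_
      · rw [← hMP]; exact Submodule.subset_span ha
      · rw [← hMQ]; exact Submodule.subset_span hb
    · refine sup_le ?_ ?_
      · rw [← hMP]; exact Submodule.span_mono (SetLike.coe_subset_coe.mpr le_sup_left)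
      · rw [← hMQ]; exact Submodule.span_mono (SetLike.coe_subset_coe.mpr le_sup_right)
  · have h1 : (s : ℚ) ≠ 0 := by exact_mod_cast hs.ne'
    have h2 : (s' : ℚ) ≠ 0 := by exact_mod_cast hs'.ne'
    rw [← hrs]
    push_cast
    field_simp
  · have h1 : (s : ℚ) ≠ 0 := by exact_mod_cast hs.ne'
    have h2 : (s' : ℚ) ≠ 0 := by exact_mod_cast hs'.ne'
    have h3 : (s' : ℤ) * r = s * r' := by
      have h4 := hrs.trans hrs'.symm
      rw [div_eq_div_iff h1 h2] at h4
      have h5 : r * (s' : ℤ) = r' * (s : ℤ) := by exact_mod_cast h4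
      linarith
    rw [im_sup, sc_sup]
    congr 1
    · rw [pow_mul, im_pow_eq_sc hp0 (h.pow s) hi s']
    · rw [mul_comm s s', pow_mul, im_pow_eq_sc hp0 (h.pow s') hi' s, h3]

theorem im_bot : im G (⊥ : Submodule W N) = ⊥ := by
  rw [eq_bot_iff, im_le_iff]
  rintro x hx
  rw [Submodule.mem_bot] at hx ⊢
  rw [hx, map_zero]

theorem sc_bot (r : ℤ) : sc L p r (⊥ : Submodule W N) = ⊥ := Submodule.smul_bot' _

theorem IsoIn.bot (μ : ℚ) : IsoIn W p G μ (⊥ : Submodule L N) := by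
  refine ⟨?_, ⊥, Submodule.fg_bot, ?_, μ.num, μ.den, μ.den_pos, μ.num_div_den, ?_⟩
  · intro x hx
    rw [Submodule.mem_bot] at hx ⊢
    rw [hx, map_zero]
  · simp
  · rw [im_bot, sc_bot]

include hp in
theorem isoIn_sSup [Module.Finite L N] (h : TwBy τ σ G) (μ : ℚ) :
    IsoIn W p G μ (sSup {P : Submodule L N | IsoIn W p G μ P}) := by
  have h1 : CompleteLattice.IsSupClosedCompact (Submodule L N) :=
    CompleteLattice.WellFoundedGT.isSupClosedCompact _ inferInstance
  exact h1 {P : Submodule L N | IsoIn W p G μ P} ⟨⊥, IsoIn.bot μ⟩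
    (fun P hP Q hQ => IsoIn.sup hp h hP hQ)

end K923.Iso
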