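import Groth.Agent.Isoc.K923.Conn
import Groth.Agent.Isoc.K923.Iso

/-!
# Dictionary between `Isoc.IsIsoclinic`, `Isoc.slopePart` and the abstract calculus
-/

set_option autoImplicit false
set_option linter.unusedSectionVars false

open scoped Pointwise Topology
open Filter

namespace K923.Conn2

open K923.Basic K923.Lat K923.Det K923.Slope K923.Iso K923.Conn

universe u v

variable {p : ℕ} [Fact p.Prime] {k : Type u} [Field k] [CharP k p] [PerfectRing k p]
variable {N : Type v} [AddCommGroup N] [Module (WittVector p k) N]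
  [Module (FractionRing (WittVector p k)) N]
  [IsScalarTower (WittVector p k) (FractionRing (WittVector p k)) N] {a : ℤ}

theorem isoIn_of_isIsoclinic (F : N →ₛₗ[Isoc.frob p k a] N)
    (P : Submodule (FractionRing (WittVector p k)) N) (hP : ∀ x ∈ P, F x ∈ P) (μ : ℚ)
    (h : Isoc.IsIsoclinic (F.restrict hP) μ) : IsoIn (WittVector p k) p (op F) μ P := by
  obtain ⟨M, hM, r, s, hs, hrs, hi⟩ := h
  rw [latImg_eq, pPow_eq] at hi
  have hf : ∀ x : P, P.subtype (op (F.restrict hP) x) = op F (P.subtype x) := fun x => rfl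
  refine ⟨hP, M.map (resW _ P.subtype), hM.fg.map _, ?_, r, s, hs, hrs, ?_⟩
  · apply le_antisymm
    · rw [Submodule.span_le]
      rintro _ ⟨x, -, rfl⟩
      exact x.2
    · intro x hx
      obtain ⟨n, hn⟩ := ((isLattice_iff (Conn.hp p k)).mp hM).2 ⟨x, hx⟩
      exact mem_span_of_pow_smul_mem (p_ne (Conn.hp p k)) (n := n) ⟨_, hn, rfl⟩
  · rw [im_map P.subtype (pow_comm P.subtype hf s), hi, sc_map]

theorem isIsoclinic_of_isoIn (F : N →ₛₗ[Isoc.frob p k a] N)
    (P : Submodule (FractionRing (WittVector p k)) N) (μ : ℚ)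
    (h : IsoIn (WittVector p k) p (op F) μ P) :
    ∃ hP : ∀ x ∈ P, F x ∈ P, Isoc.IsIsoclinic (F.restrict hP) μ := by
  obtain ⟨hP, M, hM, hMP, r, s, hs, hrs, hi⟩ := h
  have hP' : ∀ x ∈ P, F x ∈ P := hP
  have hf : ∀ x : P, P.subtype (op (F.restrict hP') x) = op F (P.subtype x) := fun x => rfl
  have hinj : Function.Injective (resW (WittVector p k) P.subtype) := Subtype.val_injective
  have hMle : ∀ x ∈ M, x ∈ P := by
    intro x hx; rw [← hMP]; exact Submodule.subset_span hx
  have hmap : (M.comap (resW _ P.subtype)).map (resW _ P.subtype) = M := by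
    rw [Submodule.map_comap_eq, inf_eq_right]
    intro x hx
    exact ⟨⟨x, hMle x hx⟩, rfl⟩
  refine ⟨hP', M.comap (resW _ P.subtype), ?_, r, s, hs, hrs, ?_⟩
  · rw [isLattice_iff (Conn.hp p k)]
    refine ⟨fg_comap (Conn.hp p k) (Submodule.injective_subtype P) hM, fun x => ?_⟩
    obtain ⟨n, hn⟩ := exists_pow_smul_mem (L := FractionRing (WittVector p k)) (Conn.hp p k)
      (M := M) (x := (x : N)) (by rw [hMP]; exact x.2)
    exact ⟨n, hn⟩
  · rw [latImg_eq, pPow_eq]
    apply Submodule.map_injective_of_injective hinj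
    rw [← im_map P.subtype (pow_comm P.subtype hf s), ← sc_map, hmap]
    exact hi

theorem slopePart_eq (F : N →ₛₗ[Isoc.frob p k a] N) (μ : ℚ) :
    Isoc.slopePart F μ =
      sSup {P : Submodule (FractionRing (WittVector p k)) N |
        IsoIn (WittVector p k) p (op F) μ P} := by
  rw [Isoc.slopePart]
  congr 1
  ext P
  constructor
  · rintro ⟨hP, h⟩
    exact isoIn_of_isIsoclinic F P hP μ h
  · intro h
    exact isIsoclinic_of_isoIn F P μ h

theorem isoIn_slopePart (F : N →ₛₗ[Isoc.frob p k a] N)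
    [Module.Finite (FractionRing (WittVector p k)) N] (μ : ℚ) :
    IsoIn (WittVector p k) p (op F) μ (Isoc.slopePart F μ) := by
  rw [slopePart_eq]
  exact isoIn_sSup (Conn.hp p k) (twBy F) μ

theorem le_slopePart (F : N →ₛₗ[Isoc.frob p k a] N) {μ : ℚ}
    {P : Submodule (FractionRing (WittVector p k)) N}
    (hP : IsoIn (WittVector p k) p (op F) μ P) : P ≤ Isoc.slopePart F μ := by
  rw [slopePart_eq]
  exact le_sSup hP

end K923.Conn2
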