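import Groth.Agent.Isoc.K923.Chain
import Mathlib.LinearAlgebra.Matrix.Basis
import Mathlib.LinearAlgebra.Matrix.NonsingularInverse

/-!
# Determinants of twisted endomorphisms and their orders
-/

set_option autoImplicit false
set_option linter.unusedSectionVars false

open scoped Pointwise

namespace K923.Det

open K923.Basic K923.Lat

section Mat

variable {W L : Type*} [CommRing W] [Field L] [Algebra W L]
variable {N : Type*} [AddCommGroup N] [Module W N] [Module L N] [IsScalarTower W L N]
variable {τ τ' : L ≃+* L} {σ σ' : W ≃+* W} {G H : AddMonoid.End N}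
variable {ι : Type*} [Fintype ι] [DecidableEq ι]

/-- the matrix of an additive endomorphism in a basis -/
noncomputable def mat (b : Module.Basis ι L N) (G : AddMonoid.End N) : Matrix ι ι L :=
  Matrix.of fun i j => b.repr (G (b j)) i

theorem mat_apply (b : Module.Basis ι L N) (G : AddMonoid.End N) (i j : ι) :
    mat b G i j = b.repr (G (b j)) i := rfl

theorem mat_one (b : Module.Basis ι L N) : mat b (1 : AddMonoid.End N) = 1 := by
  ext i j
  rw [mat_apply, AddMonoid.End.coe_one, id_eq, b.repr_self, Matrix.one_apply,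
    Finsupp.single_apply]
  simp only [eq_comm]

theorem repr_apply (h : TwBy τ σ G) (b : Module.Basis ι L N) (x : N) (i : ι) :
    b.repr (G x) i = ∑ j, mat b G i j * τ (b.repr x j) := by
  conv_lhs => rw [← b.sum_repr x]
  rw [map_sum, map_sum, Finsupp.finsetSum_apply]
  refine Finset.sum_congr rfl fun j _ => ?_
  rw [h.map_smul, map_smul, Finsupp.smul_apply, smul_eq_mul, mul_comm, mat_apply]

theorem mat_mul (h : TwBy τ σ G) (b : Module.Basis ι L N) :
    mat b (G * H) = mat b G * (mat b H).map τ := by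
  ext i j
  rw [mat_apply]
  change b.repr (G (H (b j))) i = _
  rw [repr_apply h b, Matrix.mul_apply]
  rfl

theorem det_mul (h : TwBy τ σ G) (b : Module.Basis ι L N) :
    (mat b (G * H)).det = (mat b G).det * τ (mat b H).det := by
  rw [mat_mul h, Matrix.det_mul]
  congr 1
  exact (RingHom.map_det τ.toRingHom (mat b H)).symm

theorem mat_scal (b : Module.Basis ι L N) (p : ℕ) (r : ℤ) :
    mat b (scal (L := L) N p r * G) = ((p : L) ^ r) • mat b G := by
  ext i j
  rw [mat_apply]
  change b.repr (((p : L) ^ r) • G (b j)) i = _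
  rw [map_smul]
  rfl

theorem det_scal (b : Module.Basis ι L N) (p : ℕ) (r : ℤ) :
    (mat b (scal (L := L) N p r * G)).det = ((p : L) ^ r) ^ Fintype.card ι * (mat b G).det := by
  rw [mat_scal, Matrix.det_smul]

theorem mat_basis_change (h : TwBy τ σ G) (b b' : Module.Basis ι L N) :
    mat b' G = b'.toMatrix b * mat b G * (b.toMatrix b').map τ := by
  ext i j
  rw [mat_apply, Matrix.mul_apply]
  have h1 : G (b' j) = ∑ l, b.repr (G (b' j)) l • b l := (b.sum_repr _).symm
  rw [h1, map_sum, Finsupp.finsetSum_apply]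
  simp_rw [map_smul, Finsupp.smul_apply, smul_eq_mul, repr_apply h b (b' j)]
  simp_rw [Matrix.mul_apply, Matrix.map_apply, Module.Basis.toMatrix_apply, Finset.sum_mul]
  rw [Finset.sum_comm]
  refine Finset.sum_congr rfl fun l _ => Finset.sum_congr rfl fun m _ => ?_
  ring

theorem det_reindex {ι' : Type*} [Fintype ι'] [DecidableEq ι'] (e : ι ≃ ι')
    (b : Module.Basis ι L N) : (mat (b.reindex e) G).det = (mat b G).det := by
  have : mat (b.reindex e) G = (mat b G).submatrix e.symm e.symm := by
    ext i j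
    simp [mat_apply]
  rw [this, Matrix.det_submatrix_equiv_self]

end Mat

section Inv

variable {W L : Type*} [CommRing W] [Field L] [Algebra W L]
variable {N : Type*} [AddCommGroup N] [Module W N] [Module L N] [IsScalarTower W L N]
variable {τ : L ≃+* L} {σ : W ≃+* W} {G : AddMonoid.End N}

/-- the inverse of a bijective additive endomorphism -/
noncomputable def inv (G : AddMonoid.End N) (hG : Function.Bijective G) : AddMonoid.End N :=
  (AddEquiv.ofBijective G hG).symm.toAddMonoidHom

theorem inv_apply_apply (hG : Function.Bijective G) (x : N) : inv G hG (G x) = x :=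
  (AddEquiv.ofBijective G hG).symm_apply_apply x

theorem apply_inv_apply (hG : Function.Bijective G) (x : N) : G (inv G hG x) = x :=
  (AddEquiv.ofBijective G hG).apply_symm_apply x

theorem inv_mul (hG : Function.Bijective G) : inv G hG * G = 1 := by
  ext x; exact inv_apply_apply hG x

theorem mul_inv (hG : Function.Bijective G) : G * inv G hG = 1 := by
  ext x; exact apply_inv_apply hG x

theorem inv_bijective (hG : Function.Bijective G) : Function.Bijective (inv G hG) :=
  (AddEquiv.ofBijective G hG).symm.bijective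

theorem TwBy_inv (h : TwBy τ σ G) (hG : Function.Bijective G) :
    TwBy τ.symm σ.symm (inv G hG) where
  compat w := by
    rw [RingEquiv.symm_apply_eq, h.compat, RingEquiv.apply_symm_apply]
  map_smul c x := by
    apply hG.1
    rw [apply_inv_apply, h.map_smul, RingEquiv.apply_symm_apply, apply_inv_apply]

end Inv

section Ord

variable {W L : Type*} [CommRing W] [IsDomain W] [IsDiscreteValuationRing W] [Field L]
  [Algebra W L] [IsFractionRing W L]
variable {N : Type*} [AddCommGroup N] [Module W N] [Module L N] [IsScalarTower W L N]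
variable {p : ℕ} (hp : Irreducible (p : W))
variable {τ τ' : L ≃+* L} {σ σ' : W ≃+* W} {G H : AddMonoid.End N}

variable (W L) in
/-- order of the determinant -/
def OrdDet (p : ℕ) (G : AddMonoid.End N) (d : ℤ) : Prop :=
  ∃ (n : ℕ) (b : Module.Basis (Fin n) L N), OrdP W p (mat b G).det d

include hp in
theorem ordP_det_of_basis {ι ι' : Type*} [Fintype ι] [DecidableEq ι] [Fintype ι'] [DecidableEq ι']
    (h : TwBy τ σ G) (b : Module.Basis ι L N) (b' : Module.Basis ι' L N) {d : ℤ}
    (hd : OrdP W p (mat b G).det d) : OrdP W p (mat b' G).det d := by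
  let e : ι ≃ ι' := b.indexEquiv b'
  rw [← det_reindex e b] at hd
  generalize b.reindex e = c at hd
  rw [mat_basis_change h c b', Matrix.det_mul, Matrix.det_mul]
  have h1 : (b'.toMatrix c).det * (c.toMatrix b').det = 1 := by
    rw [← Matrix.det_mul, Module.Basis.toMatrix_mul_toMatrix_flip, Matrix.det_one]
  have h2 : (b'.toMatrix c).det ≠ 0 := left_ne_zero_of_mul_eq_one h1
  obtain ⟨r, hr⟩ := OrdP.exists_of_ne_zero (p := p) hp h2
  have h3 : (c.toMatrix b').det = (b'.toMatrix c).det⁻¹ := eq_inv_of_mul_eq_one_right h1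
  have h4 : ((c.toMatrix b').map τ).det = τ (c.toMatrix b').det :=
    (RingHom.map_det τ.toRingHom _).symm
  rw [h4, h3]
  have := (hr.mul hp hd).mul hp (hr.inv.map h.compat)
  rwa [show r + d + -r = d by ring] at this

include hp in
theorem OrdDet.of_basis {ι : Type*} [Fintype ι] [DecidableEq ι] (h : TwBy τ σ G)
    (b : Module.Basis ι L N) {d : ℤ} (hd : OrdP W p (mat b G).det d) : OrdDet W L p G d := by
  let e := Fintype.equivFin ι
  exact ⟨_, b.reindex e, ordP_det_of_basis hp h b _ hd⟩

include hp in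
theorem OrdDet.basis {ι : Type*} [Fintype ι] [DecidableEq ι] (h : TwBy τ σ G) {d : ℤ}
    (hd : OrdDet W L p G d) (b : Module.Basis ι L N) : OrdP W p (mat b G).det d := by
  obtain ⟨n, b', hb'⟩ := hd
  exact ordP_det_of_basis hp h b' b hb'

include hp in
theorem OrdDet.unique (h : TwBy τ σ G) {d d' : ℤ} (hd : OrdDet W L p G d)
    (hd' : OrdDet W L p G d') : d = d' := by
  obtain ⟨n, b, hb⟩ := hd
  exact hb.unique hp (hd'.basis hp h b)

include hp in
theorem OrdDet.mul (h : TwBy τ σ G) (h' : TwBy τ' σ' H) {d d' : ℤ} (hd : OrdDet W L p G d)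
    (hd' : OrdDet W L p H d') : OrdDet W L p (G * H) (d + d') := by
  obtain ⟨n, b, hb⟩ := hd
  refine ⟨n, b, ?_⟩
  rw [det_mul h]
  exact hb.mul hp ((hd'.basis hp h' b).map h.compat)

theorem OrdDet.one [Module.Finite L N] : OrdDet W L p (1 : AddMonoid.End N) 0 := by
  refine ⟨_, Module.finBasis L N, ?_⟩
  rw [mat_one, Matrix.det_one]
  exact OrdP.one

include hp in
theorem OrdDet.pow [Module.Finite L N] (h : TwBy τ σ G) {d : ℤ} (hd : OrdDet W L p G d) (n : ℕ) :
    OrdDet W L p (G ^ n) (n * d) := by
  induction n with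
  | zero => simpa using OrdDet.one
  | succ n ih =>
    rw [pow_succ]
    have := ih.mul hp (h.pow n) h hd
    convert this using 1
    push_cast; ring

include hp in
theorem OrdDet.scal {d : ℤ} (hd : OrdDet W L p G d) (r : ℤ) :
    OrdDet W L p (K923.Basic.scal (L := L) N p r * G) (r * Module.finrank L N + d) := by
  obtain ⟨n, b, hb⟩ := hd
  refine ⟨n, b, ?_⟩
  rw [det_scal]
  have h1 : Module.finrank L N = n := by
    rw [Module.finrank_eq_card_basis b, Fintype.card_fin]
  have h2 : OrdP W p (((p : L) ^ r) ^ Fintype.card (Fin n)) (r * n) := by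
    rw [Fintype.card_fin, ← zpow_natCast, ← zpow_mul]
    exact OrdP.zpow hp _
  rw [h1]
  exact h2.mul hp hb

include hp in
theorem OrdDet.exists [Module.Finite L N] (h : TwBy τ σ G) (hG : Function.Bijective G) :
    ∃ d, OrdDet W L p G d := by
  have h1 : (mat (Module.finBasis L N) G).det ≠ 0 := by
    intro h0
    have h2 := det_mul (H := inv G hG) h (Module.finBasis L N)
    rw [mul_inv, mat_one, Matrix.det_one, h0, zero_mul] at h2
    exact one_ne_zero h2
  obtain ⟨d, hd⟩ := OrdP.exists_of_ne_zero (p := p) hp h1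
  exact ⟨d, _, _, hd⟩

theorem repr_ext {ι : Type*} [Fintype ι] [DecidableEq ι] {M : Submodule W N}
    [hM : M.IsLattice L] (b : Module.Basis ι W M) (m : M) (i : ι) :
    (b.extendOfIsLattice L).repr (m : N) i = algebraMap W L (b.repr m i) := by
  have h1 : (m : N) = ∑ j, (algebraMap W L (b.repr m j)) • (b.extendOfIsLattice L j) := by
    conv_lhs => rw [← b.sum_repr m]
    rw [Submodule.coe_sum]
    refine Finset.sum_congr rfl fun j _ => ?_
    rw [Module.Basis.extendOfIsLattice_apply, algebraMap_smul]
    rfl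
  conv_lhs => rw [h1]
  rw [map_sum, Finsupp.finsetSum_apply]
  simp_rw [map_smul, Finsupp.smul_apply, Module.Basis.repr_self, Finsupp.single_apply, smul_eq_mul,
    mul_ite, mul_one, mul_zero]
  rw [Finset.sum_ite_eq' Finset.univ i]
  simp

include hp in
/-- the matrix in a basis of a lattice with `G M ⊆ p ^ r M` -/
theorem exists_mat_eq {M : Submodule W N} (hM : M.IsLattice L) {n : ℕ}
    (b : Module.Basis (Fin n) W M) {r : ℤ} (hr : im G M ≤ sc L p r M) :
    ∃ A : Matrix (Fin n) (Fin n) W,
      mat (b.extendOfIsLattice L) G = ((p : L) ^ r) • A.map (algebraMap W L) := by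
  have h1 : ∀ j : Fin n, ∃ m : M, G (b j) = ((p : L) ^ r) • (m : N) := by
    intro j
    have := hr (mem_im_of_mem (b j).2)
    rw [sc, Submodule.mem_smul_pointwise_iff_exists] at this
    obtain ⟨m, hm, hm'⟩ := this
    exact ⟨⟨m, hm⟩, hm'.symm⟩
  choose m hm using h1
  refine ⟨Matrix.of fun i j => b.repr (m j) i, ?_⟩
  ext i j
  rw [mat_apply, Matrix.smul_apply, Matrix.map_apply, Matrix.of_apply,
    Module.Basis.extendOfIsLattice_apply, hm, map_smul, Finsupp.smul_apply, repr_ext]

include hp in
/-- `G M ⊆ p ^ r M` forces `r * h ≤ orddet G` -/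
theorem le_ordDet (h : TwBy τ σ G) {M : Submodule W N} (hM : M.IsLattice L) {n : ℕ}
    (hn : Module.finrank L N = n) {r d : ℤ} (hr : im G M ≤ sc L p r M)
    (hd : OrdDet W L p G d) : r * n ≤ d := by
  obtain ⟨b⟩ := Chain.exists_basis hM hn
  obtain ⟨A, hA⟩ := exists_mat_eq hp hM b hr
  have h1 := hd.basis hp h (b.extendOfIsLattice L)
  rw [hA, Matrix.det_smul, Fintype.card_fin, ← zpow_natCast, ← zpow_mul] at h1
  refine h1.le_of_eq hp (w := A.det) ?_
  congr 1
  exact (RingHom.map_det (algebraMap W L) A).symm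

include hp in
/-- `G M ⊆ p ^ r M` and `orddet G = r * h` force equality -/
theorem im_eq_of_ordDet (h : TwBy τ σ G) {M : Submodule W N} (hM : M.IsLattice L) {n : ℕ}
    (hn : Module.finrank L N = n) {r : ℤ} (hr : im G M ≤ sc L p r M)
    (hd : OrdDet W L p G (r * n)) : im G M = sc L p r M := by
  refine le_antisymm hr ?_
  obtain ⟨b⟩ := Chain.exists_basis hM hn
  obtain ⟨A, hA⟩ := exists_mat_eq hp hM b hr
  have h1 := hd.basis hp h (b.extendOfIsLattice L)
  rw [hA, Matrix.det_smul, Fintype.card_fin, ← zpow_natCast, ← zpow_mul] at h1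
  obtain ⟨u, hu⟩ := h1
  have h2 : (A.map (algebraMap W L)).det = algebraMap W L A.det :=
    (RingHom.map_det (algebraMap W L) A).symm
  have h3 := mul_left_cancel₀ (zpow_ne_zero _ (p_ne hp)) hu
  rw [h2] at h3
  have h4 : A.det = u := IsFractionRing.injective W L h3
  have h5 : IsUnit A.det := by rw [h4]; exact u.isUnit
  intro y hy
  rw [sc, Submodule.mem_smul_pointwise_iff_exists] at hy
  obtain ⟨m, hm, rfl⟩ := hy
  rw [h.mem_im]
  let c : Fin n → W := fun i => b.repr ⟨m, hm⟩ i
  let z : Fin n → W := A⁻¹.mulVec c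
  have hz : A.mulVec z = c := by
    rw [Matrix.mulVec_mulVec, Matrix.mul_nonsing_inv _ h5, Matrix.one_mulVec]
  let x : M := ∑ j, σ.symm (z j) • b j
  refine ⟨x, x.2, ?_⟩
  apply (b.extendOfIsLattice L).repr.injective
  ext i
  have hx : ∀ j, b.repr x j = σ.symm (z j) := by
    intro j
    rw [map_sum, Finsupp.finsetSum_apply]
    simp_rw [map_smul, Finsupp.smul_apply, Module.Basis.repr_self, Finsupp.single_apply,
      smul_eq_mul, mul_ite, mul_one, mul_zero]
    rw [Finset.sum_ite_eq' Finset.univ j]
    simp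
  have hm2 : (b.extendOfIsLattice L).repr m i = algebraMap W L (c i) :=
    repr_ext b ⟨m, hm⟩ i
  rw [repr_apply h, hA, map_smul, Finsupp.smul_apply, hm2, ← hz]
  simp_rw [repr_ext, hx, h.compat, RingEquiv.apply_symm_apply, Matrix.smul_apply, Matrix.map_apply,
    smul_eq_mul, Matrix.mulVec, dotProduct, map_sum, map_mul, Finset.mul_sum, mul_assoc]

include hp in
theorem ordDet_inv [Module.Finite L N] (h : TwBy τ σ G) (hG : Function.Bijective G) {d : ℤ}
    (hd : OrdDet W L p G d) : OrdDet W L p (inv G hG) (-d) := by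
  obtain ⟨e, he⟩ := OrdDet.exists (W := W) (L := L) hp (TwBy_inv h hG) (inv_bijective hG)
  have h1 : OrdDet W L p (G * inv G hG) (d + e) := hd.mul hp h (TwBy_inv h hG) he
  rw [mul_inv] at h1
  have h2 : d + e = 0 := h1.unique hp (TwBy.one (W := W)) (OrdDet.one (W := W) (L := L))
  rwa [show -d = e by omega]

include hp in
theorem im_inv (h : TwBy τ σ G) (hG : Function.Bijective G) {M : Submodule W N} {r : ℤ}
    (hr : im G M = sc L p r M) : im (inv G hG) M = sc L p (-r) M := by
  have h1 : im (inv G hG) (im G M) = M := by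
    rw [← im_mul h, inv_mul, im_one]
  rw [hr, im_sc (p_ne hp) (TwBy_inv h hG)] at h1
  calc im (inv G hG) M = sc L p (-r) (sc L p r (im (inv G hG) M)) := by
        rw [sc_sc (p_ne hp), neg_add_cancel, sc_zero]
    _ = sc L p (-r) M := by rw [h1]

include hp in
/-- `G M = p ^ r M` forces `orddet G = r * h` -/
theorem ordDet_eq (h : TwBy τ σ G) (hG : Function.Bijective G) {M : Submodule W N}
    (hM : M.IsLattice L) {n : ℕ} (hn : Module.finrank L N = n) {r d : ℤ}
    (hr : im G M = sc L p r M) (hd : OrdDet W L p G d) : r * n = d := by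
  have := Chain.moduleFinite_of_isLattice hM
  apply le_antisymm
  · exact le_ordDet hp h hM hn hr.le hd
  · have h1 := le_ordDet hp (TwBy_inv h hG) hM hn (im_inv hp h hG hr).le (ordDet_inv hp h hG hd)
    linarith

end Ord

end K923.Det
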