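import Groth.Agent.Isoc.K923.Slope
import Mathlib.NumberTheory.DiophantineApproximation.Basic

/-!
# Effectivity and rationality of the first slope
-/

set_option autoImplicit false
set_option linter.unusedSectionVars false

open scoped Pointwise Topology
open Filter

namespace K923.Eff

open K923.Basic K923.Lat K923.Det K923.Slope

variable {W L : Type*} [CommRing W] [IsDomain W] [IsDiscreteValuationRing W] [Field L]
  [Algebra W L] [IsFractionRing W L]
variable {N : Type*} [AddCommGroup N] [Module W N] [Module L N] [IsScalarTower W L N]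
variable {p : ℕ} (hp : Irreducible (p : W))
variable {τ τ' : L ≃+* L} {σ σ' : W ≃+* W} {G H : AddMonoid.End N}

/-- `M + G M + ⋯ + G ^ n M` -/
def orb (G : AddMonoid.End N) (M : Submodule W N) : ℕ → Submodule W N
  | 0 => M
  | n + 1 => M ⊔ im G (orb G M n)

theorem orb_le_succ (M : Submodule W N) (n : ℕ) : orb G M n ≤ orb G M (n + 1) := by
  induction n with
  | zero => exact le_sup_left
  | succ n ih => exact sup_le_sup_left (im_mono ih) M

theorem orb_mono (M : Submodule W N) : Monotone (orb G M) := monotone_nat_of_le_succ (orb_le_succ M)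

theorem orb_succ (h : TwBy τ σ G) (M : Submodule W N) (n : ℕ) :
    orb G M (n + 1) = orb G M n ⊔ im (G ^ (n + 1)) M := by
  induction n with
  | zero => simp [orb]
  | succ n ih =>
    change M ⊔ im G (orb G M (n + 1)) = (M ⊔ im G (orb G M n)) ⊔ _
    rw [ih, im_sup, ← im_mul (h.pow (n + 1)), ← pow_succ', sup_assoc]

theorem im_pow_le_orb (h : TwBy τ σ G) (M : Submodule W N) (n : ℕ) :
    im (G ^ n) M ≤ orb G M n := by
  cases n with
  | zero => simp [orb, im_one]
  | succ n => rw [orb_succ h]; exact le_sup_right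

theorem isLattice_orb (h : TwBy τ σ G) {M : Submodule W N} (hM : M.IsLattice L) (n : ℕ) :
    (orb G M n).IsLattice L := by
  have hle : M ≤ orb G M n := orb_mono M (Nat.zero_le n)
  refine Submodule.IsLattice.of_le_of_isLattice_of_fg L hle ?_
  clear hle
  induction n with
  | zero => exact hM.fg
  | succ n ih => exact hM.fg.sup (fg_im h ih)

/-- if `G ^ (n+1) M ⊆ orb n` then the orbit module is stable -/
theorem im_orb_le (h : TwBy τ σ G) {M : Submodule W N} {n : ℕ}
    (hn : im (G ^ (n + 1)) M ≤ orb G M n) : im G (orb G M n) ≤ orb G M n := by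
  have : im G (orb G M n) ≤ orb G M (n + 1) := le_sup_right
  refine this.trans ?_
  rw [orb_succ h]
  exact sup_le le_rfl hn

include hp in
/-- `G ^ (h + 1) M ⊆ p⁻¹ M` implies effective -/
theorem effective_of_height (h : TwBy τ σ G) {M : Submodule W N} (hM : M.IsLattice L) {n : ℕ}
    (hn : Module.finrank L N = n) (hG : im (G ^ (n + 1)) M ≤ sc L p (-1) M) :
    ∃ M' : Submodule W N, M'.IsLattice L ∧ im G M' ≤ M' := by
  have hO := isLattice_orb h hM n
  have hle : ∀ i ≤ n + 1, orb G M (n + i) ≤ sc L p (-1) (orb G M n) := by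
    intro i
    induction i with
    | zero =>
      intro _
      have := sc_anti (L := L) (p_ne hp) (show (-1 : ℤ) ≤ 0 by omega) (orb G M n)
      rwa [sc_zero] at this
    | succ i ih =>
      intro hi
      rw [← add_assoc, orb_succ h]
      refine sup_le (ih (by omega)) ?_
      rw [show n + i + 1 = i + (n + 1) by ring, pow_add, im_mul (h.pow (n + 1))]
      refine (im_mono hG).trans ?_
      rw [im_sc (p_ne hp) (h.pow i)]
      exact sc_mono ((im_pow_le_orb h M i).trans (orb_mono M (by omega)))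
  obtain ⟨i, hi, hi'⟩ := Chain.chain hp (isLattice_sc hp hO (-1)) hn (fun i => orb G M (n + i))
    (fun i _ => orb_le_succ M _)
    (fun i _ => by
      rw [sc_sc (p_ne hp), show (1 : ℤ) + -1 = 0 by ring, sc_zero]
      exact orb_mono M (by omega))
    hle
  refine ⟨_, isLattice_orb h hM (n + i), ?_⟩
  have h1 : im G (orb G M (n + i)) ≤ orb G M (n + i + 1) := le_sup_right
  exact h1.trans hi'.symm.le

theorem bijective_pow (hG : Function.Bijective G) (n : ℕ) :
    Function.Bijective (G ^ n : AddMonoid.End N) := by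
  rw [AddMonoid.End.coe_pow]; exact hG.iterate n

include hp in
theorem bijective_scal (m : ℤ) : Function.Bijective (scal (L := L) N p m) := by
  have h0 : (p : L) ^ m ≠ 0 := zpow_ne_zero _ (p_ne hp)
  constructor
  · intro x y hxy
    exact smul_right_injective N h0 hxy
  · intro y
    refine ⟨((p : L) ^ m)⁻¹ • y, ?_⟩
    change ((p : L) ^ m) • ((p : L) ^ m)⁻¹ • y = y
    rw [smul_smul, mul_inv_cancel₀ h0, one_smul]

include hp in
theorem bijective_scal_mul (hG : Function.Bijective G) (m : ℤ) :
    Function.Bijective (scal (L := L) N p m * G : AddMonoid.End N) := by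
  have := (bijective_scal (N := N) (L := L) hp m).comp hG
  exact this

include hp in
/-- if some positive iterate maps `M` to itself, then the operator is effective -/
theorem effective_of_pow (h : TwBy τ σ G) {M : Submodule W N} (hM : M.IsLattice L) {n : ℕ}
    (hn : 0 < n) (hG : im (G ^ n) M ≤ M) : ∃ M' : Submodule W N, M'.IsLattice L ∧ im G M' ≤ M' := by
  obtain ⟨m, rfl⟩ : ∃ m, n = m + 1 := ⟨n - 1, by omega⟩
  exact ⟨_, isLattice_orb h hM m, im_orb_le h (hG.trans (orb_mono M (Nat.zero_le m)))⟩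

include hp in
/-- if the first slope is positive, some iterate maps `M` into `p M` -/
theorem exists_pow_le_of_pos {lam : ℝ} (hlam : FirstSlope W L p G lam) (h : TwBy τ σ G)
    (hG : Function.Bijective G) {M : Submodule W N} (hM : M.IsLattice L) (hpos : 0 < lam) :
    ∃ n : ℕ, 0 < n ∧ im (G ^ n) M ≤ sc L p 1 M := by
  obtain ⟨o, ho, hl⟩ := hlam.data hp h hG hM
  have h1 : ∀ᶠ n : ℕ in atTop, (0 : ℝ) < (o n : ℝ) / n := hl.eventually (lt_mem_nhds hpos)
  obtain ⟨n, hn, hn'⟩ := (h1.and (eventually_ge_atTop 1)).exists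
  refine ⟨n, hn', ((ho n).le_iff hp).mpr ?_⟩
  have h2 : (0 : ℝ) < n := by exact_mod_cast hn'
  have h3 : (0 : ℝ) < o n := by
    rcases div_pos_iff.mp hn with h | h
    · exact h.1
    · linarith [h.2]
  have h4 : 0 < o n := by exact_mod_cast h3
  omega

include hp in
/-- non-negative first slope implies effective -/
theorem effective_of_nonneg {lam : ℝ} (hlam : FirstSlope W L p G lam) (h : TwBy τ σ G)
    (hG : Function.Bijective G) (hpos : 0 ≤ lam) :
    ∃ M' : Submodule W N, M'.IsLattice L ∧ im G M' ≤ M' := by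
  obtain ⟨M, hM, -⟩ := id hlam
  let n := Module.finrank L N
  have hK := (h.pow (n + 1)).scal (p := p) 1
  have h1 := hlam.twist hp h hG 1 (n + 1)
  obtain ⟨m, hm, hm'⟩ := exists_pow_le_of_pos hp h1 hK
    (bijective_scal_mul hp (bijective_pow hG _) 1) hM (by push_cast; positivity)
  obtain ⟨M', hM', hle⟩ := effective_of_pow hp hK hM hm (hm'.trans (by
    have := sc_nat_le (L := L) (p := p) 1 M
    exact_mod_cast this))
  refine effective_of_height hp h hM' rfl ?_
  rwa [im_scal_mul, ← neg_neg (1 : ℤ), ← le_sc_iff (p_ne hp)] at hle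

include hp in
/-- `r / s ≤ lam` implies `G ^ s M ⊆ p ^ r M` for some lattice -/
theorem exists_le_of_le {lam : ℝ} (hlam : FirstSlope W L p G lam) (h : TwBy τ σ G)
    (hG : Function.Bijective G) {r : ℤ} {s : ℕ} (hrs : (r : ℝ) ≤ s * lam) :
    ∃ M' : Submodule W N, M'.IsLattice L ∧ im (G ^ s) M' ≤ sc L p r M' := by
  have h1 := hlam.twist hp h hG (-r) s
  obtain ⟨M', hM', hle⟩ := effective_of_nonneg hp h1 ((h.pow s).scal _)
    (bijective_scal_mul hp (bijective_pow hG _) _) (by push_cast; linarith)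
  refine ⟨M', hM', ?_⟩
  rwa [im_scal_mul, ← le_sc_iff (p_ne hp)] at hle

include hp in
/-- topologically nilpotent implies `G ^ h M ⊆ p M` -/
theorem im_pow_height_le (h : TwBy τ σ G) {M : Submodule W N} (hM : M.IsLattice L) {n : ℕ}
    (hn : Module.finrank L N = n) (hG : im G M ≤ M) {m : ℕ} (hm : im (G ^ m) M ≤ sc L p 1 M) :
    im (G ^ n) M ≤ sc L p 1 M := by
  have hsc : sc L p 1 M ≤ M := by
    have := sc_nat_le (L := L) (p := p) 1 M
    exact_mod_cast this
  let D : ℕ → Submodule W N := fun i => im (G ^ i) M ⊔ sc L p 1 M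
  have hD : ∀ i, D (i + 1) = im G (D i) ⊔ sc L p 1 M := by
    intro i
    change im (G ^ (i + 1)) M ⊔ _ = im G (im (G ^ i) M ⊔ sc L p 1 M) ⊔ _
    rw [im_sup, ← im_mul (h.pow i), ← pow_succ', im_sc (p_ne hp) h, sup_assoc,
      sup_eq_right.mpr (sc_mono hG)]
  have hanti : ∀ i, D (i + 1) ≤ D i := by
    intro i
    refine sup_le_sup_right ?_ _
    rw [pow_succ, im_mul h]
    exact im_mono hG
  have hle : ∀ i, D i ≤ M := fun i => sup_le (im_pow_le h hG i) hsc
  obtain ⟨i, hi, hi'⟩ := Chain.chain' hp hM hn D (fun i _ => hanti i) (fun i _ => le_sup_right)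
    (fun i _ => hle i)
  have hstab : ∀ j, D (i + j) = D i := by
    intro j
    induction j with
    | zero => rfl
    | succ j ih => rw [← add_assoc, hD, ih, ← hD, ← hi']
  have hanti' : Antitone D := antitone_nat_of_succ_le hanti
  have h1 : D i ≤ sc L p 1 M := by
    rw [← hstab m]
    refine (hanti' (show m ≤ i + m by omega)).trans ?_
    exact sup_le hm le_rfl
  exact le_sup_left.trans ((hanti' hi).trans h1)

include hp in
/-- rationality of the first slope -/
theorem exists_rational {lam : ℝ} (hlam : FirstSlope W L p G lam) (h : TwBy τ σ G)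
    (hG : Function.Bijective G) {n : ℕ} (hn : Module.finrank L N = n) :
    ∃ (r : ℤ) (s : ℕ) (M : Submodule W N), 0 < s ∧ s ≤ n ∧ lam = (r : ℝ) / s ∧ M.IsLattice L ∧
      Ord L p M (G ^ s) r := by
  have hnt := hlam.nontrivial
  obtain ⟨M₀, hM₀, -⟩ := id hlam
  have := Chain.moduleFinite_of_isLattice hM₀
  have hn0 : 0 < n := by rw [← hn]; exact Module.finrank_pos
  obtain ⟨j, k, hk0, hkn, habs⟩ := Real.exists_int_int_abs_mul_sub_le lam hn0
  obtain ⟨s, rfl⟩ := Int.eq_ofNat_of_zero_le hk0.le
  have hs0 : 0 < s := by exact_mod_cast hk0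
  have hsn : s ≤ n := by exact_mod_cast hkn
  let K := scal (L := L) N p (-j) * G ^ s
  have hKt : TwBy (τ ^ s) (σ ^ s) K := (h.pow s).scal (-j)
  have hKb : Function.Bijective K := bijective_scal_mul hp (bijective_pow hG _) _
  have hKs : FirstSlope W L p K (s * lam + (-j : ℤ)) := hlam.twist hp h hG (-j) s
  set mu : ℝ := s * lam + (-j : ℤ) with hmu
  have hmu' : |mu| ≤ 1 / (n + 1) := by
    rw [hmu]; push_cast at habs ⊢; rwa [← sub_eq_add_neg]
  have hnpos : (0 : ℝ) < n + 1 := by positivity
  have hmu1 : -(1 / (n + 1)) ≤ mu := (abs_le.mp hmu').1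
  have hmu2 : mu ≤ 1 / (n + 1) := (abs_le.mp hmu').2
  obtain ⟨M₁, hM₁, hle₁⟩ := exists_le_of_le hp hKs hKt hKb (r := -1) (s := n + 1) (by
    push_cast
    have := mul_le_mul_of_nonneg_left hmu1 hnpos.le
    have h2 : ((n : ℝ) + 1) * -(1 / (n + 1)) = -1 := by field_simp
    linarith)
  obtain ⟨M, hM, hle⟩ := effective_of_height hp hKt hM₁ hn hle₁
  have hge : 0 ≤ mu := by
    have := hKs.le hp hKt hKb hM (s := 1) (r := 0) one_pos (by rwa [pow_one, sc_zero])
    simpa using this
  have hzero : mu = 0 := by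
    by_contra hne
    have hpos : 0 < mu := lt_of_le_of_ne hge (Ne.symm hne)
    obtain ⟨m, -, hm⟩ := exists_pow_le_of_pos hp hKs hKt hKb hM hpos
    have h1 := im_pow_height_le hp hKt hM hn hle hm
    have h2 := hKs.le hp hKt hKb hM hn0 h1
    have h3 : (n : ℝ) * mu ≤ n * (1 / (n + 1)) := by gcongr
    have h4 : (n : ℝ) * (1 / (n + 1)) < 1 := by
      rw [mul_one_div, div_lt_one hnpos]; linarith
    push_cast at h2
    linarith
  have hs' : (s : ℝ) ≠ 0 := by exact_mod_cast hs0.ne'
  have himK : im K M = sc L p (-j) (im (G ^ s) M) := im_scal_mul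
  refine ⟨j, s, M, hs0, hsn, ?_, hM, ?_, ?_⟩
  · rw [eq_div_iff hs']
    rw [hmu] at hzero
    push_cast at hzero
    linarith
  · rw [himK] at hle
    rwa [le_sc_iff (p_ne hp)]
  · intro hcon
    have h1 : im (K ^ 1) M ≤ sc L p 1 M := by
      rw [pow_one, himK]
      have := sc_mono (L := L) (p := p) (r := -j) hcon
      rwa [sc_sc (p_ne hp), show -j + (j + 1) = 1 by ring] at this
    have h2 := hKs.le hp hKt hKb hM one_pos h1
    rw [hzero] at h2
    norm_num at h2

end K923.Eff
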