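import Groth.Agent.Isoc.K923.Basic

/-!
# Lattices over a discrete valuation ring with uniformiser `p`
-/

set_option autoImplicit false
set_option linter.unusedSectionVars false

open scoped Pointwise

namespace K923.Lat

open K923.Basic

section Scalars

variable {W L : Type*} [CommRing W] [IsDomain W] [IsDiscreteValuationRing W] [Field L]
  [Algebra W L] [IsFractionRing W L]
variable {p : ℕ} (hp : Irreducible (p : W))

include hp in
theorem p_ne : (p : L) ≠ 0 := by
  rw [← map_natCast (algebraMap W L)]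
  exact (map_ne_zero_iff _ (IsFractionRing.injective W L)).mpr hp.ne_zero

variable (W) in
/-- the `p`-adic order as a relation -/
def OrdP (p : ℕ) (c : L) (r : ℤ) : Prop :=
  ∃ u : Wˣ, c = (p : L) ^ r * algebraMap W L (u : W)

theorem OrdP.one : OrdP W p (1 : L) 0 := ⟨1, by simp⟩

include hp in
theorem OrdP.ne_zero {c : L} {r : ℤ} (h : OrdP W p c r) : c ≠ 0 := by
  obtain ⟨u, rfl⟩ := h
  exact mul_ne_zero (zpow_ne_zero _ (p_ne hp))
    ((map_ne_zero_iff _ (IsFractionRing.injective W L)).mpr u.ne_zero)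

include hp in
theorem OrdP.mul {c d : L} {r s : ℤ} (h : OrdP W p c r) (h' : OrdP W p d s) :
    OrdP W p (c * d) (r + s) := by
  obtain ⟨u, rfl⟩ := h
  obtain ⟨v, rfl⟩ := h'
  refine ⟨u * v, ?_⟩
  rw [zpow_add₀ (p_ne hp), Units.val_mul, map_mul]
  ring

theorem OrdP.inv {c : L} {r : ℤ} (h : OrdP W p c r) : OrdP W p c⁻¹ (-r) := by
  obtain ⟨u, rfl⟩ := h
  refine ⟨u⁻¹, ?_⟩
  rw [mul_inv, zpow_neg]
  congr 1
  rw [inv_eq_iff_eq_inv]
  apply eq_inv_of_mul_eq_one_left
  rw [← map_mul, Units.mul_inv, map_one]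

include hp in
theorem OrdP.zpow (r : ℤ) : OrdP W p ((p : L) ^ r) r := ⟨1, by simp⟩

include hp in
theorem OrdP.le_of_eq {c : L} {d r : ℤ} (h : OrdP W p c d) {w : W}
    (hc : c = (p : L) ^ r * algebraMap W L w) : r ≤ d := by
  obtain ⟨u, hu⟩ := h
  by_contra hlt
  push Not at hlt
  obtain ⟨n, hn⟩ := Int.eq_ofNat_of_zero_le (sub_nonneg.mpr hlt.le)
  have hn0 : n ≠ 0 := by rintro rfl; simp at hn; omega
  have hr : r = d + n := by omega
  rw [hu, hr, zpow_add₀ (p_ne hp), mul_assoc] at hc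
  have h1 := mul_left_cancel₀ (zpow_ne_zero _ (p_ne hp)) hc
  rw [zpow_natCast, ← map_natCast (algebraMap W L), ← map_pow, ← map_mul] at h1
  have h2 := IsFractionRing.injective W L h1
  have h3 : (p : W) ∣ (u : W) := by
    rw [h2]
    exact Dvd.dvd.mul_right (dvd_pow_self _ hn0) _
  exact hp.not_isUnit (isUnit_of_dvd_unit h3 u.isUnit)

include hp in
theorem OrdP.unique {c : L} {d r : ℤ} (h : OrdP W p c d) (h' : OrdP W p c r) : d = r := by
  obtain ⟨u, hu⟩ := h
  obtain ⟨v, hv⟩ := h'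
  exact le_antisymm (OrdP.le_of_eq hp ⟨v, hv⟩ hu) (OrdP.le_of_eq hp ⟨u, hu⟩ hv)

include hp in
theorem OrdP.exists_of_ne_zero {c : L} (hc : c ≠ 0) : ∃ r, OrdP W p c r := by
  obtain ⟨a, b, hb, rfl⟩ := IsFractionRing.div_surjective (A := W) c
  have hb0 : b ≠ 0 := nonZeroDivisors.ne_zero hb
  have ha0 : a ≠ 0 := by rintro rfl; simp at hc
  have key : ∀ x : W, x ≠ 0 → ∃ n : ℤ, OrdP W p (algebraMap W L x) n := by
    intro x hx
    obtain ⟨n, u, hu⟩ := IsDiscreteValuationRing.eq_unit_mul_pow_irreducible hx hp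
    refine ⟨n, u, ?_⟩
    rw [hu, map_mul, map_pow, map_natCast, zpow_natCast, mul_comm]
  obtain ⟨m, hm⟩ := key a ha0
  obtain ⟨n, hn⟩ := key b hb0
  rw [div_eq_mul_inv]
  exact ⟨_, hm.mul hp hn.inv⟩

theorem OrdP.map {τ : L ≃+* L} {σ : W ≃+* W}
    (hc : ∀ w, τ (algebraMap W L w) = algebraMap W L (σ w)) {c : L} {r : ℤ}
    (h : OrdP W p c r) : OrdP W p (τ c) r := by
  obtain ⟨u, rfl⟩ := h
  refine ⟨Units.map σ.toMonoidHom u, ?_⟩
  rw [map_mul, map_zpow₀, map_natCast, hc]
  rfl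

include hp in
theorem exists_pow_mul (c : L) : ∃ (n : ℕ) (w : W), (p : L) ^ n * c = algebraMap W L w := by
  by_cases hc : c = 0
  · exact ⟨0, 0, by simp [hc]⟩
  obtain ⟨r, u, hu⟩ := OrdP.exists_of_ne_zero (p := p) hp hc
  obtain ⟨n, hn⟩ := Int.eq_ofNat_of_zero_le (show (0 : ℤ) ≤ r.natAbs + r by omega)
  refine ⟨r.natAbs, (p : W) ^ n * u, ?_⟩
  rw [hu, ← mul_assoc, ← zpow_natCast, ← zpow_add₀ (p_ne hp), hn, map_mul, map_pow, map_natCast,
    zpow_natCast]

end Scalars

section Lattices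

variable {W L : Type*} [CommRing W] [IsDomain W] [IsDiscreteValuationRing W] [Field L]
  [Algebra W L] [IsFractionRing W L]
variable {N : Type*} [AddCommGroup N] [Module W N] [Module L N] [IsScalarTower W L N]
variable {p : ℕ} (hp : Irreducible (p : W))

theorem pow_smul_mem {M : Submodule W N} {x : N} (hx : x ∈ M) (n : ℕ) : ((p : L) ^ n) • x ∈ M := by
  have : ((p : L) ^ n) • x = ((p : W) ^ n) • x := by
    rw [← algebraMap_smul L ((p : W) ^ n) x, map_pow, map_natCast]
  rw [this]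
  exact M.smul_mem _ hx

theorem pow_smul_mem_of_le {M : Submodule W N} {x : N} {m n : ℕ} (h : m ≤ n)
    (hx : ((p : L) ^ m) • x ∈ M) : ((p : L) ^ n) • x ∈ M := by
  obtain ⟨k, rfl⟩ := Nat.exists_eq_add_of_le' h
  rw [pow_add, mul_smul]
  exact pow_smul_mem hx k

include hp in
theorem exists_pow_smul_mem {M : Submodule W N} {x : N}
    (hx : x ∈ Submodule.span L (M : Set N)) : ∃ n : ℕ, ((p : L) ^ n) • x ∈ M := by
  induction hx using Submodule.span_induction with
  | mem x hx => exact ⟨0, by simpa using hx⟩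
  | zero => exact ⟨0, by simp⟩
  | add x y _ _ hx hy =>
    obtain ⟨m, hm⟩ := hx
    obtain ⟨n, hn⟩ := hy
    refine ⟨max m n, ?_⟩
    rw [smul_add]
    exact M.add_mem (pow_smul_mem_of_le (le_max_left _ _) hm)
      (pow_smul_mem_of_le (le_max_right _ _) hn)
  | smul a x _ hx =>
    obtain ⟨m, hm⟩ := hx
    obtain ⟨n, w, hw⟩ := exists_pow_mul (L := L) hp a
    refine ⟨n + m, ?_⟩
    rw [smul_smul, pow_add, show (p : L) ^ n * (p : L) ^ m * a = ((p : L) ^ n * a) * (p : L) ^ m by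
      ring, mul_smul, hw, algebraMap_smul]
    exact M.smul_mem _ hm

/-- `M` absorbs `N`: every element of `N` is carried into `M` by a power of `p`. -/
theorem mem_span_of_pow_smul_mem (hp0 : (p : L) ≠ 0) {M : Submodule W N} {x : N} {n : ℕ}
    (h : ((p : L) ^ n) • x ∈ M) : x ∈ Submodule.span L (M : Set N) := by
  have : x = ((p : L) ^ n)⁻¹ • ((p : L) ^ n) • x := by
    rw [smul_smul, inv_mul_cancel₀ (pow_ne_zero _ hp0), one_smul]
  rw [this]
  exact Submodule.smul_mem _ _ (Submodule.subset_span h)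

include hp in
theorem isLattice_iff {M : Submodule W N} :
    M.IsLattice L ↔ M.FG ∧ ∀ x : N, ∃ n : ℕ, ((p : L) ^ n) • x ∈ M := by
  constructor
  · intro h
    refine ⟨h.fg, fun x => exists_pow_smul_mem hp ?_⟩
    rw [h.span_eq_top]; trivial
  · rintro ⟨h1, h2⟩
    refine ⟨h1, ?_⟩
    rw [eq_top_iff]
    intro x _
    obtain ⟨n, hn⟩ := h2 x
    exact mem_span_of_pow_smul_mem (p_ne hp) hn

include hp in
/-- uniform denominators for finitely generated submodules -/
theorem exists_sc_le_of_fg {M₁ M₂ : Submodule W N} (h1 : M₁.FG)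
    (h2 : ∀ x ∈ M₁, ∃ n : ℕ, ((p : L) ^ n) • x ∈ M₂) : ∃ n : ℕ, sc L p n M₁ ≤ M₂ := by
  obtain ⟨S, rfl⟩ := h1
  have hS : ∀ x ∈ S, ∃ n : ℕ, ((p : L) ^ n) • x ∈ M₂ := fun x hx => h2 x (Submodule.subset_span hx)
  choose! f hf using hS
  refine ⟨S.sup f, ?_⟩
  rw [sc, Submodule.smul_span, Submodule.span_le]
  rintro _ ⟨x, hx, rfl⟩
  change ((p : L) ^ ((S.sup f : ℕ) : ℤ)) • x ∈ M₂
  rw [zpow_natCast]
  exact pow_smul_mem_of_le (Finset.le_sup (f := f) hx) (hf x hx)

include hp in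
theorem exists_sc_le {M₁ M₂ : Submodule W N} (h1 : M₁.FG) (h2 : M₂.IsLattice L) :
    ∃ n : ℕ, sc L p n M₁ ≤ M₂ :=
  exists_sc_le_of_fg hp h1 fun x _ => ((isLattice_iff hp).mp h2).2 x

include hp in
theorem exists_le_sc {M₁ M₂ : Submodule W N} (h1 : M₁.FG) (h2 : M₂.IsLattice L) :
    ∃ n : ℕ, M₁ ≤ sc L p (-n) M₂ := by
  obtain ⟨n, hn⟩ := exists_sc_le hp h1 h2
  exact ⟨n, by rwa [le_sc_iff (p_ne hp), neg_neg]⟩

include hp in
theorem isLattice_sc {M : Submodule W N} (h : M.IsLattice L) (r : ℤ) :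
    (sc L p r M).IsLattice L := by
  have := Submodule.IsLattice.smul L M (Units.mk0 ((p : L) ^ r) (zpow_ne_zero _ (p_ne hp)))
  exact this

variable {τ : L ≃+* L} {σ : W ≃+* W} {G : AddMonoid.End N}

theorem fg_im (h : TwBy τ σ G) {M : Submodule W N} (hM : M.FG) : (im G M).FG := by
  classical
  obtain ⟨S, rfl⟩ := hM
  refine ⟨S.image G, ?_⟩
  apply le_antisymm
  · rw [Submodule.span_le]
    intro x hx
    rw [Finset.coe_image] at hx
    obtain ⟨y, hy, rfl⟩ := hx
    exact mem_im_of_mem (Submodule.subset_span hy)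
  · rw [im_le_iff]
    intro x hx
    induction hx using Submodule.span_induction with
    | mem x hx => exact Submodule.subset_span (by rw [Finset.coe_image]; exact ⟨x, hx, rfl⟩)
    | zero => rw [map_zero]; exact Submodule.zero_mem _
    | add x y _ _ hx hy => rw [map_add]; exact Submodule.add_mem _ hx hy
    | smul a x _ hx => rw [h.map_smulW]; exact Submodule.smul_mem _ _ hx

include hp in
theorem isLattice_im (h : TwBy τ σ G) (hG : Function.Surjective G) {M : Submodule W N}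
    (hM : M.IsLattice L) : (im G M).IsLattice L := by
  rw [isLattice_iff hp] at hM ⊢
  refine ⟨fg_im h hM.1, fun x => ?_⟩
  obtain ⟨y, rfl⟩ := hG x
  obtain ⟨n, hn⟩ := hM.2 y
  refine ⟨n, ?_⟩
  have := mem_im_of_mem (G := G) hn
  rwa [h.map_smul, map_pow, map_natCast] at this

/-- the image of `G` is an `L`-subspace -/
def range (h : TwBy τ σ G) : Submodule L N where
  carrier := Set.range G
  add_mem' := by rintro _ _ ⟨a, rfl⟩ ⟨b, rfl⟩; exact ⟨a + b, map_add _ _ _⟩
  zero_mem' := ⟨0, map_zero _⟩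
  smul_mem' := by
    rintro c _ ⟨a, rfl⟩
    exact ⟨τ.symm c • a, by rw [h.map_smul, RingEquiv.apply_symm_apply]⟩

theorem surjective_of_injective [Module.Finite L N] (h : TwBy τ σ G)
    (hG : Function.Injective G) : Function.Surjective G := by
  classical
  let b := Module.finBasis L N
  have hli : LinearIndependent L (fun i => G (b i)) := by
    rw [Fintype.linearIndependent_iff]
    intro g hg i
    have h1 : G (∑ i, τ.symm (g i) • b i) = 0 := by
      rw [map_sum, ← hg]
      refine Finset.sum_congr rfl fun i _ => ?_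
      rw [h.map_smul, RingEquiv.apply_symm_apply]
    have h2 : ∑ i, τ.symm (g i) • b i = 0 := hG (by rw [h1, map_zero])
    have h3 := Fintype.linearIndependent_iff.mp b.linearIndependent _ h2 i
    simpa using h3
  have hsp := hli.span_eq_top_of_card_eq_finrank' (by simp)
  intro y
  have hy : y ∈ Submodule.span L (Set.range fun i => G (b i)) := by rw [hsp]; trivial
  have hle : Submodule.span L (Set.range fun i => G (b i)) ≤ range h :=
    Submodule.span_le.mpr (by rintro _ ⟨i, rfl⟩; exact ⟨b i, rfl⟩)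
  exact hle hy

include hp in
/-- a finitely generated module is `p`-adically separated -/
theorem eq_zero_of_forall_mem_sc {M : Submodule W N} (hM : M.FG) {x : N}
    (hx : ∀ n : ℕ, x ∈ sc L p n M) : x = 0 := by
  have hfin : Module.Finite W M := Module.Finite.iff_fg.mpr hM
  have hxM : x ∈ M := by simpa [sc_zero] using hx 0
  have h1 := Ideal.iInf_pow_smul_eq_bot_of_isLocalRing (R := W) (M := M) (Ideal.span {(p : W)})
    (by
      intro htop
      exact hp.not_isUnit (Ideal.span_singleton_eq_top.mp htop))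
  have h2 : (⟨x, hxM⟩ : M) ∈ (⨅ i : ℕ, (Ideal.span {(p : W)}) ^ i • ⊤ : Submodule W M) := by
    rw [Submodule.mem_iInf]
    intro i
    have hxi := hx i
    rw [sc, Submodule.mem_smul_pointwise_iff_exists] at hxi
    obtain ⟨y, hy, hyx⟩ := hxi
    have h3 : (⟨x, hxM⟩ : M) = ((p : W) ^ i) • (⟨y, hy⟩ : M) := by
      apply Subtype.ext
      change x = ((p : W) ^ i) • y
      rw [← hyx, ← algebraMap_smul L ((p : W) ^ i) y, map_pow, map_natCast, zpow_natCast]
    rw [h3]
    exact Submodule.smul_mem_smul (Ideal.pow_mem_pow (Ideal.mem_span_singleton_self _) i) trivial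
  rw [h1] at h2
  simpa using h2

end Lattices

end K923.Lat
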