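import Groth.Agent.Isoc.K923.Det
import Mathlib.Analysis.Subadditive
import Mathlib.Analysis.SpecificLimits.Basic

/-!
# Orders of iterates and the first slope
-/

set_option autoImplicit false
set_option linter.unusedSectionVars false

open scoped Pointwise Topology
open Filter

namespace K923.Slope

open K923.Basic K923.Lat K923.Det

variable {W L : Type*} [CommRing W] [IsDomain W] [IsDiscreteValuationRing W] [Field L]
  [Algebra W L] [IsFractionRing W L]
variable {N : Type*} [AddCommGroup N] [Module W N] [Module L N] [IsScalarTower W L N]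
variable {p : ℕ} (hp : Irreducible (p : W))
variable {τ τ' : L ≃+* L} {σ σ' : W ≃+* W} {G H : AddMonoid.End N}

variable (L) in
/-- the order of `G` relative to `M` -/
def Ord (p : ℕ) (M : Submodule W N) (G : AddMonoid.End N) (r : ℤ) : Prop :=
  im G M ≤ sc L p r M ∧ ¬ im G M ≤ sc L p (r + 1) M

variable (W L) in
/-- the first slope -/
def FirstSlope (p : ℕ) (G : AddMonoid.End N) (lam : ℝ) : Prop :=
  ∃ M : Submodule W N, M.IsLattice L ∧ ∃ o : ℕ → ℤ, (∀ n : ℕ, 1 ≤ n → Ord L p M (G ^ n) (o n)) ∧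
    Tendsto (fun n : ℕ => (o n : ℝ) / n) atTop (𝓝 lam)

include hp in
theorem Ord.le_iff {M : Submodule W N} {r s : ℤ} (h : Ord L p M G r) :
    im G M ≤ sc L p s M ↔ s ≤ r := by
  constructor
  · intro h1
    by_contra h2
    push Not at h2
    exact h.2 (h1.trans (sc_anti (p_ne hp) (by omega) M))
  · intro h1
    exact h.1.trans (sc_anti (p_ne hp) h1 M)

include hp in
theorem Ord.unique {M : Submodule W N} {r s : ℤ} (h : Ord L p M G r) (h' : Ord L p M G s) :
    r = s :=
  le_antisymm ((h'.le_iff hp).mp h.1) ((h.le_iff hp).mp h'.1)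

include hp in
theorem ord_of_le_iff {M : Submodule W N} {r : ℤ} (h : ∀ s, im G M ≤ sc L p s M ↔ s ≤ r) :
    Ord L p M G r := ⟨(h r).mpr le_rfl, fun h' => by have := (h _).mp h'; omega⟩

include hp in
/-- some element of the lattice is nonzero -/
theorem exists_mem_ne_zero [Nontrivial N] {M : Submodule W N} (hM : M.IsLattice L) :
    ∃ x ∈ M, x ≠ 0 := by
  obtain ⟨y, hy⟩ := exists_ne (0 : N)
  obtain ⟨n, hn⟩ := ((isLattice_iff hp).mp hM).2 y
  exact ⟨_, hn, smul_ne_zero (pow_ne_zero _ (p_ne hp)) hy⟩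

include hp in
theorem exists_ord [Nontrivial N] (h : TwBy τ σ G) (hG : Function.Bijective G)
    {M : Submodule W N} (hM : M.IsLattice L) : ∃ r, Ord L p M G r := by
  obtain ⟨c, hc⟩ := exists_le_sc hp (isLattice_im hp h hG.2 hM).fg hM
  obtain ⟨x, hx, hx0⟩ := exists_mem_ne_zero hp hM
  have hGx : G x ≠ 0 := fun h0 => hx0 (hG.1 (by rw [h0, map_zero]))
  have h1 : ∃ n : ℕ, G x ∉ sc L p n M := by
    by_contra hcon
    push Not at hcon
    exact hGx (eq_zero_of_forall_mem_sc hp hM.fg hcon)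
  obtain ⟨n, hn⟩ := h1
  obtain ⟨r, hr, hr'⟩ := Int.exists_greatest_of_bdd (P := fun r : ℤ => im G M ≤ sc L p r M)
    ⟨n, by
      intro z hz
      by_contra hlt
      push Not at hlt
      exact hn ((hz.trans (sc_anti (p_ne hp) hlt.le M)) (mem_im_of_mem hx))⟩
    ⟨_, hc⟩
  exact ⟨r, hr, fun h' => by have := hr' _ h'; omega⟩

include hp in
theorem ord_one [Nontrivial N] {M : Submodule W N} (hM : M.IsLattice L) :
    Ord L p M (1 : AddMonoid.End N) 0 := by
  refine ⟨by rw [im_one, sc_zero], ?_⟩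
  rw [im_one]
  intro hle
  obtain ⟨x, hx, hx0⟩ := exists_mem_ne_zero hp hM
  apply hx0
  apply eq_zero_of_forall_mem_sc (L := L) hp hM.fg
  intro n
  have : M ≤ sc L p n M := by
    induction n with
    | zero => simp [sc_zero]
    | succ n ih =>
      refine ih.trans ?_
      have h1 := sc_mono (L := L) (p := p) (r := n) hle
      rw [sc_sc (p_ne hp)] at h1
      convert h1 using 2
      push_cast; ring
  exact this hx

include hp in
theorem ord_mul_le (h : TwBy τ σ G) (h' : TwBy τ' σ' H) {M : Submodule W N} {r s t : ℤ}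
    (hr : Ord L p M G r) (hs : Ord L p M H s) (ht : Ord L p M (G * H) t) : r + s ≤ t := by
  rw [← ht.le_iff hp, im_mul h']
  refine (im_mono hs.1).trans ?_
  rw [im_sc (p_ne hp) h]
  refine (sc_mono hr.1).trans ?_
  rw [sc_sc (p_ne hp), add_comm s r]

include hp in
/-- comparing lattices -/
theorem exists_compare {M₁ M₂ : Submodule W N} (hM₁ : M₁.IsLattice L) (hM₂ : M₂.IsLattice L) :
    ∃ c : ℕ, ∀ {τ : L ≃+* L} {σ : W ≃+* W} {G : AddMonoid.End N}, TwBy τ σ G → ∀ r : ℤ,
      im G M₁ ≤ sc L p r M₁ → im G M₂ ≤ sc L p (r - c) M₂ := by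
  obtain ⟨c, hc⟩ := exists_sc_le hp hM₁.fg hM₂
  obtain ⟨d, hd⟩ := exists_le_sc hp hM₂.fg hM₁
  refine ⟨c + d, ?_⟩
  intro τ σ G h r hr
  calc im G M₂ ≤ im G (sc L p (-d) M₁) := im_mono hd
    _ = sc L p (-d) (im G M₁) := im_sc (p_ne hp) h
    _ ≤ sc L p (-d) (sc L p r M₁) := sc_mono hr
    _ = sc L p (-d + r - c) (sc L p c M₁) := by
        rw [sc_sc (p_ne hp), sc_sc (p_ne hp)]; congr 1; ring
    _ ≤ sc L p (-d + r - c) M₂ := sc_mono hc
    _ = sc L p (r - (c + d : ℕ)) M₂ := by congr 1; push_cast; ring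

include hp in
theorem exists_limit [Nontrivial N] (h : TwBy τ σ G) (hG : Function.Bijective G)
    {M : Submodule W N} (hM : M.IsLattice L) :
    ∃ o : ℕ → ℤ, (∀ n : ℕ, Ord L p M (G ^ n) (o n)) ∧
      ∃ lam : ℝ, Tendsto (fun n : ℕ => (o n : ℝ) / n) atTop (𝓝 lam) := by
  have hbij : ∀ n : ℕ, Function.Bijective (G ^ n : AddMonoid.End N) := fun n => by
    rw [AddMonoid.End.coe_pow]; exact hG.iterate n
  have h1 : ∀ n : ℕ, ∃ r, Ord L p M (G ^ n) r := fun n => exists_ord hp (h.pow n) (hbij n) hM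
  choose o ho using h1
  have hsuper : ∀ m n, o m + o n ≤ o (m + n) := by
    intro m n
    have := ho (m + n)
    rw [pow_add] at this
    exact ord_mul_le hp (h.pow m) (h.pow n) (ho m) (ho n) this
  -- upper bound
  have hinv := TwBy_inv h hG
  obtain ⟨c, hc⟩ := exists_le_sc hp
    (isLattice_im hp hinv (inv_bijective hG).2 hM).fg hM
  have hub : ∀ n, o n ≤ n * c := by
    intro n
    have h2 : im ((inv G hG) ^ n) M ≤ sc L p (n * (-c)) M := im_pow_le_sc (p_ne hp) hinv hc n
    have h3 : M ≤ sc L p (o n + n * (-c)) M := by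
      calc M = im ((inv G hG) ^ n) (im (G ^ n) M) := by
            rw [← im_mul (h.pow n)]
            have : (inv G hG) ^ n * G ^ n = 1 := by
              rw [← (show Commute (inv G hG) G from
                (inv_mul hG).trans (Det.mul_inv hG).symm).mul_pow, inv_mul, one_pow]
            rw [this, im_one]
        _ ≤ im ((inv G hG) ^ n) (sc L p (o n) M) := im_mono (ho n).1
        _ = sc L p (o n) (im ((inv G hG) ^ n) M) := im_sc (p_ne hp) (hinv.pow n)
        _ ≤ sc L p (o n) (sc L p (n * (-c)) M) := sc_mono h2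
        _ = _ := sc_sc (p_ne hp)
    have h4 := (ord_one hp hM).le_iff hp (s := o n + n * (-c))
    rw [im_one] at h4
    have := h4.mp h3
    linarith
  refine ⟨o, ho, ?_⟩
  let u : ℕ → ℝ := fun n => -(o n : ℝ)
  have hsub : Subadditive u := by
    intro m n
    have := hsuper m n
    have h5 : (o m : ℝ) + o n ≤ o (m + n) := by exact_mod_cast this
    simp only [u]; linarith
  have hbdd : BddBelow (Set.range fun n => u n / n) := by
    refine ⟨-(c : ℝ), ?_⟩
    rintro _ ⟨n, rfl⟩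
    simp only [u]
    rcases Nat.eq_zero_or_pos n with rfl | hn
    · simp
    · rw [le_div_iff₀ (by exact_mod_cast hn)]
      have := hub n
      have h5 : (o n : ℝ) ≤ n * c := by exact_mod_cast this
      linarith
  refine ⟨-hsub.lim, ?_⟩
  have := (hsub.tendsto_lim hbdd).neg
  refine this.congr fun n => ?_
  simp only [u]; ring

include hp in
/-- the limits computed with two lattices agree -/
theorem tendsto_of_lattice (h : TwBy τ σ G) {M₁ M₂ : Submodule W N} (hM₁ : M₁.IsLattice L)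
    (hM₂ : M₂.IsLattice L) {o₁ o₂ : ℕ → ℤ} (ho₁ : ∀ n : ℕ, 1 ≤ n → Ord L p M₁ (G ^ n) (o₁ n))
    (ho₂ : ∀ n : ℕ, 1 ≤ n → Ord L p M₂ (G ^ n) (o₂ n)) {lam : ℝ}
    (hlam : Tendsto (fun n : ℕ => (o₁ n : ℝ) / n) atTop (𝓝 lam)) :
    Tendsto (fun n : ℕ => (o₂ n : ℝ) / n) atTop (𝓝 lam) := by
  obtain ⟨c, hc⟩ := exists_compare hp hM₁ hM₂
  obtain ⟨d, hd⟩ := exists_compare hp hM₂ hM₁
  have h1 : Tendsto (fun n : ℕ => (o₁ n : ℝ) / n - c / n) atTop (𝓝 lam) := by
    have := hlam.sub (tendsto_const_div_atTop_nhds_zero_nat (c : ℝ))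
    rwa [sub_zero] at this
  have h2 : Tendsto (fun n : ℕ => (o₁ n : ℝ) / n + d / n) atTop (𝓝 lam) := by
    have := hlam.add (tendsto_const_div_atTop_nhds_zero_nat (d : ℝ))
    rwa [add_zero] at this
  refine tendsto_of_tendsto_of_tendsto_of_le_of_le' h1 h2 ?_ ?_
  · filter_upwards [eventually_ge_atTop 1] with n hn
    have h3 := ((ho₂ n hn).le_iff hp).mp (hc (h.pow n) _ (ho₁ n hn).1)
    have h4 : (o₁ n : ℝ) - c ≤ o₂ n := by exact_mod_cast h3
    rw [← sub_div]
    gcongr
  · filter_upwards [eventually_ge_atTop 1] with n hn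
    have h3 := ((ho₁ n hn).le_iff hp).mp (hd (h.pow n) _ (ho₂ n hn).1)
    have h4 : (o₂ n : ℝ) - d ≤ o₁ n := by exact_mod_cast h3
    rw [← add_div]
    gcongr
    linarith

theorem FirstSlope.nontrivial {lam : ℝ} (h : FirstSlope W L p G lam) : Nontrivial N := by
  obtain ⟨M, hM, o, ho, -⟩ := h
  by_contra hcon
  rw [not_nontrivial_iff_subsingleton] at hcon
  apply (ho 1 le_rfl).2
  intro x _
  rw [Subsingleton.elim x 0]
  exact Submodule.zero_mem _

include hp in
/-- the first slope can be computed with any lattice -/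
theorem FirstSlope.of_lattice {lam : ℝ} (hlam : FirstSlope W L p G lam) (h : TwBy τ σ G)
    {M : Submodule W N} (hM : M.IsLattice L) {o : ℕ → ℤ}
    (ho : ∀ n : ℕ, 1 ≤ n → Ord L p M (G ^ n) (o n)) :
    Tendsto (fun n : ℕ => (o n : ℝ) / n) atTop (𝓝 lam) := by
  obtain ⟨M', hM', o', ho', hl⟩ := hlam
  exact tendsto_of_lattice hp h hM' hM ho' ho hl

include hp in
theorem FirstSlope.unique {lam lam' : ℝ} (h : TwBy τ σ G) (hlam : FirstSlope W L p G lam)
    (hlam' : FirstSlope W L p G lam') : lam = lam' := by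
  obtain ⟨M', hM', o', ho', hl⟩ := hlam'
  exact tendsto_nhds_unique (hlam.of_lattice hp h hM' ho') hl

include hp in
theorem FirstSlope.exists [Nontrivial N] (h : TwBy τ σ G) (hG : Function.Bijective G)
    {M : Submodule W N} (hM : M.IsLattice L) : ∃ lam, FirstSlope W L p G lam := by
  obtain ⟨o, ho, lam, hl⟩ := exists_limit hp h hG hM
  exact ⟨lam, M, hM, o, fun n _ => ho n, hl⟩

include hp in
/-- data of orders in a given lattice -/
theorem FirstSlope.data {lam : ℝ} (hlam : FirstSlope W L p G lam) (h : TwBy τ σ G)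
    (hG : Function.Bijective G) {M : Submodule W N} (hM : M.IsLattice L) :
    ∃ o : ℕ → ℤ, (∀ n : ℕ, Ord L p M (G ^ n) (o n)) ∧
      Tendsto (fun n : ℕ => (o n : ℝ) / n) atTop (𝓝 lam) := by
  have := hlam.nontrivial
  obtain ⟨o, ho, lam', hl⟩ := exists_limit hp h hG hM
  refine ⟨o, ho, hlam.of_lattice hp h hM fun n _ => ho n⟩

theorem tendsto_sub {o : ℕ → ℤ} {lam : ℝ}
    (h : Tendsto (fun n : ℕ => (o n : ℝ) / n) atTop (𝓝 lam)) {s : ℕ} (hs : 0 < s) :
    Tendsto (fun n : ℕ => (o (s * n) : ℝ) / n) atTop (𝓝 (s * lam)) := by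
  have h1 : Tendsto (fun n : ℕ => s * n) atTop atTop :=
    (strictMono_mul_left_of_pos hs).tendsto_atTop
  have h2 := (h.comp h1).const_mul (s : ℝ)
  refine h2.congr fun n => ?_
  have hs' : (s : ℝ) ≠ 0 := by exact_mod_cast hs.ne'
  simp only [Function.comp_apply]
  push_cast
  rcases Nat.eq_zero_or_pos n with rfl | hn
  · simp
  · have hn' : (n : ℝ) ≠ 0 := by exact_mod_cast hn.ne'
    field_simp

include hp in
/-- `G ^ s M ⊆ p ^ r M` implies `r ≤ s * lam` -/
theorem FirstSlope.le {lam : ℝ} (hlam : FirstSlope W L p G lam) (h : TwBy τ σ G)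
    (hG : Function.Bijective G) {M : Submodule W N} (hM : M.IsLattice L) {s : ℕ} {r : ℤ}
    (hs : 0 < s) (hr : im (G ^ s) M ≤ sc L p r M) : (r : ℝ) ≤ s * lam := by
  obtain ⟨o, ho, hl⟩ := hlam.data hp h hG hM
  refine ge_of_tendsto (tendsto_sub hl hs) ?_
  filter_upwards [eventually_ge_atTop 1] with n hn
  rw [le_div_iff₀ (by exact_mod_cast hn)]
  have h1 : im (G ^ (s * n)) M ≤ sc L p (n * r) M := by
    rw [pow_mul]
    exact im_pow_le_sc (p_ne hp) (h.pow s) hr n
  have h2 := ((ho (s * n)).le_iff hp).mp h1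
  have h3 : (n : ℝ) * r ≤ o (s * n) := by exact_mod_cast h2
  linarith

include hp in
/-- first slope of `p ^ m G ^ n` -/
theorem FirstSlope.twist {lam : ℝ} (hlam : FirstSlope W L p G lam) (h : TwBy τ σ G)
    (hG : Function.Bijective G) (m : ℤ) (n : ℕ) :
    FirstSlope W L p (scal (L := L) N p m * G ^ n) (n * lam + m) := by
  have := hlam.nontrivial
  obtain ⟨M, hM, -⟩ := id hlam
  obtain ⟨o, ho, hl⟩ := hlam.data hp h hG hM
  have ho' : ∀ j : ℕ, Ord L p M ((scal (L := L) N p m * G ^ n) ^ j) (j * m + o (n * j)) := by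
    intro j
    apply ord_of_le_iff hp
    intro s
    rw [(h.pow n).scal_mul_pow (p_ne hp), im_scal_mul, ← pow_mul,
      ← sc_le_sc_iff (L := L) (p_ne hp) (r := -(j * m)), sc_sc (p_ne hp), sc_sc (p_ne hp),
      neg_add_cancel, sc_zero, (ho (n * j)).le_iff hp]
    constructor <;> intro _ <;> linarith
  refine ⟨M, hM, _, fun j _ => ho' j, ?_⟩
  have h1 : Tendsto (fun j : ℕ => (o (n * j) : ℝ) / j + m) atTop (𝓝 (n * lam + m)) := by
    rcases Nat.eq_zero_or_pos n with rfl | hn
    · have h0 : o 0 = 0 := by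
        have h2 := ho 0
        rw [pow_zero] at h2
        exact h2.unique hp (ord_one hp hM)
      simp only [zero_mul, h0]
      simp
    · exact (tendsto_sub hl hn).add_const _
  refine h1.congr' ?_
  filter_upwards [eventually_ge_atTop 1] with j hj
  have : (j : ℝ) ≠ 0 := by
    have : 0 < j := by omega
    exact_mod_cast this.ne'
  push_cast
  field_simp
  ring

end K923.Slope
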